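import Cfsg.Agent.SuzSystem.Degrees
import Cfsg.Agent.CITGroups.Main
import Cfsg.Agent.SuzukiUnique.Zassenhaus
import Cfsg.Agent.Classical.Misc.SmallPSL
import Cfsg.Agent.LThreeFour.Parabolic

/-!
# A Suzuki-type self-centralisation system determines a Suzuki group
-/

set_option autoImplicit false
set_option linter.unusedSectionVars false
set_option linter.style.haveILetI false

namespace Cfsg.Lib.SuzSystem

open scoped ComplexConjugate MatrixGroups
open Cfsg.Lib.Chars Subgroup

universe u

variable {G : Type u} [Group G] [Fintype G]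

theorem sum_centralizer_card :
    ∑ g : G, (Nat.card (centralizer ({g} : Set G)) : ℤ) =
      (Fintype.card (Cfsg.IrrCharacter G) : ℤ) * Nat.card G := by
  classical
  have h : ∑ g : G, (Nat.card (centralizer ({g} : Set G)) : ℂ) =
      (Fintype.card (Cfsg.IrrCharacter G) : ℂ) * Nat.card G := by
    rw [Finset.sum_congr rfl fun g _ => ((second_orthogonality g g).trans (if_pos (IsConj.refl g))).symm,
      Finset.sum_comm]
    have hone : ∀ χ : Cfsg.IrrCharacter G, ∑ g, (χ : G → ℂ) g * conj ((χ : G → ℂ) g) = (Nat.card G : ℂ) := by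
      intro χ
      have h1 := classInner_irr_self χ
      rw [classInner_def, inv_mul_eq_iff_eq_mul₀ (by exact_mod_cast Nat.card_pos.ne'), mul_one] at h1
      exact h1
    rw [Finset.sum_congr rfl fun χ _ => hone χ, Finset.sum_const, Finset.card_univ, nsmul_eq_mul]
  exact_mod_cast h

/-- The class of an element. -/
noncomputable def classOf (g : G) : Finset G :=
  letI := Classical.decPred (IsConj g)
  Finset.univ.filter (IsConj g)

theorem mem_classOf {g x : G} : x ∈ classOf g ↔ IsConj g x := by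
  simp [classOf]

theorem sum_classOf (g : G) :
    ∑ x ∈ classOf g, (Nat.card (centralizer ({x} : Set G)) : ℤ) = Nat.card G := by
  classical
  have hc : ∀ x ∈ classOf g, (Nat.card (centralizer ({x} : Set G)) : ℤ) =
      Nat.card (centralizer ({g} : Set G)) := by
    intro x hx
    simp only [mem_classOf] at hx
    have h1 := card_isConj_mul x
    rw [show Nat.card {y : G // IsConj x y} = Nat.card {y : G // IsConj g y} from
      Nat.card_congr (Equiv.subtypeEquivRight fun y => ⟨fun h => hx.trans h, fun h => hx.symm.trans h⟩),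
      ← card_isConj_mul g] at h1
    exact_mod_cast Nat.eq_of_mul_eq_mul_left (card_isConj_pos g) h1
  rw [Finset.sum_congr rfl hc, Finset.sum_const, nsmul_eq_mul]
  have h2 := card_isConj_mul g
  rw [Nat.card_eq_fintype_card (α := {y : G // IsConj g y}), Fintype.card_subtype] at h2
  have h3 : (classOf g).card * Nat.card (centralizer ({g} : Set G)) = Nat.card G := by
    rw [← h2]; congr 2; ext x; simp [mem_classOf]
  exact_mod_cast h3

theorem Sys.sum_supp_centralizer {A : Subgroup G} {e r : ℕ} (S : Sys A e) (hr : e * r + 1 = Nat.card A) :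
    ∑ g ∈ Sys.supp A, (Nat.card (centralizer ({g} : Set G)) : ℤ) = (Nat.card G : ℤ) * r := by
  classical
  haveI : Fintype A := Fintype.ofFinite _
  have hF : ∀ g x : G, (Nat.card (centralizer ({x * g * x⁻¹} : Set G)) : ℤ) =
      Nat.card (centralizer ({g} : Set G)) := by
    intro g x
    have h := card_isConj_mul (x * g * x⁻¹)
    have hgc : IsConj g (x * g * x⁻¹) := isConj_iff.2 ⟨x, rfl⟩
    rw [show Nat.card {y : G // IsConj (x * g * x⁻¹) y} = Nat.card {y : G // IsConj g y} from
      Nat.card_congr (Equiv.subtypeEquivRight fun y => ⟨fun h => hgc.trans h, fun h => hgc.symm.trans h⟩),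
      ← card_isConj_mul g] at h
    exact_mod_cast Nat.eq_of_mul_eq_mul_left (card_isConj_pos g) h
  have h := S.sum_supp (fun g => (Nat.card (centralizer ({g} : Set G)) : ℤ)) hF
  rw [Finset.sum_congr rfl (g := fun _ => (Nat.card A : ℤ)) fun (a : A) ha => by
    rw [S.hC a a.2 fun h => (Finset.mem_erase.1 ha).1 (Subtype.ext h)], Finset.sum_const,
    Finset.card_erase_of_mem (Finset.mem_univ _), Finset.card_univ, nsmul_eq_mul,
    ← Nat.card_eq_fintype_card, show Nat.card A - 1 = e * r by omega] at h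
  push_cast at h
  refine mul_left_cancel₀ (show (Nat.card A : ℤ) * e ≠ 0 from mul_ne_zero
    (by exact_mod_cast Nat.card_pos.ne') (by rcases S.he24 with rfl | rfl <;> norm_num)) ?_
  linear_combination h

variable {A₁ A₂ A₃ : Subgroup G}

/-- The centraliser of an involution is a 2-group. -/
theorem Triple.cit (T : Triple A₁ A₂ A₃) (D : Summary G A₁ A₂ A₃) : Cfsg.Lib.CITGroups.CIT G := by
  classical
  intro t ht
  haveI : Fact (Nat.Prime 2) := ⟨Nat.prime_two⟩
  rw [IsPGroup.iff_orderOf]
  rintro ⟨g₀, hg₀⟩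
  rw [orderOf_mk]
  by_contra hnot
  obtain ⟨p, n, hp, hp2, hpn⟩ := Cfsg.Lib.CITGroups.exists_odd_prime (g := g₀) hnot
  set g := g₀ ^ n with hg
  have hgt : Commute g t := by
    have h : Commute g₀ t := mem_centralizer_singleton_iff.1 hg₀
    exact h.pow_left n
  obtain ⟨y, -, hy, -⟩ := T.S₂.exists_order_four
  have htg : orderOf (g * t) = 2 * p := by
    rw [hgt.orderOf_mul_eq_mul_orderOf_of_coprime (by
      rw [hpn, ht]; exact (Nat.coprime_primes hp Nat.prime_two).2 hp2), hpn, ht, mul_comm]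
  have hp3 : 3 ≤ p := by have := hp.two_le; omega
  have hy2 : orderOf (y * y) = 2 := by
    rw [← pow_two, orderOf_pow' y two_ne_zero, hy]; rfl
  -- five elements outside the conjugates of the three subgroups
  have hout : ∀ {A : Subgroup G} {e : ℕ}, Sys A e → ∀ z ∈ ({1, t, g, g * t, y} : Finset G), z ∉ Sys.supp A := by
    intro A e S z hz hzA
    simp only [Finset.mem_insert, Finset.mem_singleton] at hz
    rcases hz with rfl | rfl | rfl | rfl | rfl
    · exact S.not_supp_one hzA
    · exact S.not_commute_invol hzA ht rfl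
    · exact S.not_commute_invol hzA ht hgt.eq
    · exact S.not_commute_invol hzA ht (hgt.mul_left (Commute.refl t)).eq
    · exact S.not_commute_invol hzA hy2 (by rw [mul_assoc])
  have hord : ∀ z z' : G, z' ∈ classOf z → orderOf z' = orderOf z := fun z z' h => by
    obtain ⟨x, rfl⟩ := isConj_iff.1 (mem_classOf.1 h)
    exact (MulAut.conj x).orderOf_eq z
  set Z : Finset G := {1, t, g, g * t, y} with hZ
  have hinj : Set.InjOn (fun z : G => orderOf z) (Z : Set G) := by
    intro a ha b hb hab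
    simp only [hZ, Finset.coe_insert, Finset.coe_singleton, Set.mem_insert_iff, Set.mem_singleton_iff] at ha hb
    rcases ha with rfl | rfl | rfl | rfl | rfl <;> rcases hb with rfl | rfl | rfl | rfl | rfl <;>
      simp only [orderOf_one, ht, hpn, htg, hy] at hab <;> first
        | rfl
        | (exfalso; rcases hp.eq_two_or_odd with h | h <;> omega)
  have hcardZ : Z.card = 5 := by
    have h1 : (1 : G) ∉ ({t, g, g * t, y} : Finset G) := by
      simp only [Finset.mem_insert, Finset.mem_singleton, not_or]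
      refine ⟨fun h => ?_, fun h => ?_, fun h => ?_, fun h => ?_⟩ <;>
        have h' := congrArg orderOf h <;> simp only [orderOf_one, ht, hpn, htg, hy] at h' <;> omega
    have h2 : t ∉ ({g, g * t, y} : Finset G) := by
      simp only [Finset.mem_insert, Finset.mem_singleton, not_or]
      refine ⟨fun h => ?_, fun h => ?_, fun h => ?_⟩ <;>
        have h' := congrArg orderOf h <;> simp only [ht, hpn, htg, hy] at h' <;> omega
    have h3 : g ∉ ({g * t, y} : Finset G) := by
      simp only [Finset.mem_insert, Finset.mem_singleton, not_or]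
      refine ⟨fun h => ?_, fun h => ?_⟩ <;>
        have h' := congrArg orderOf h <;> simp only [hpn, htg, hy] at h' <;>
        rcases hp.eq_two_or_odd with h'' | h'' <;> omega
    have h4 : g * t ∉ ({y} : Finset G) := by
      rw [Finset.mem_singleton]
      intro h
      have h' := congrArg orderOf h
      rw [htg, hy] at h'
      omega
    rw [hZ, Finset.card_insert_of_notMem h1, Finset.card_insert_of_notMem h2,
      Finset.card_insert_of_notMem h3, Finset.card_insert_of_notMem h4, Finset.card_singleton]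
  have hclosed : ∀ {A : Subgroup G} {e : ℕ}, Sys A e → ∀ z ∈ Z, ∀ z' ∈ classOf z, z' ∉ Sys.supp A := by
    intro A e S z hz z' hz' hzA
    obtain ⟨c, rfl⟩ := isConj_iff.1 (mem_classOf.1 hz')
    obtain ⟨h1, x, hx⟩ := Sys.mem_supp.1 hzA
    refine hout S z hz (Sys.mem_supp.2 ⟨fun e' => h1 (by rw [e']; group), c⁻¹ * x, ?_⟩)
    rw [show (c⁻¹ * x)⁻¹ * z * (c⁻¹ * x) = x⁻¹ * (c * z * c⁻¹) * x by group]
    exact hx
  have hdisj : (Z : Set G).PairwiseDisjoint classOf := fun a ha b hb hab => Finset.disjoint_left.2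
    fun z hza hzb => hab (hinj ha hb ((hord a z hza).symm.trans (hord b z hzb)))
  set U := Z.biUnion classOf with hU
  have hUd : ∀ {A : Subgroup G} {e : ℕ}, Sys A e → Disjoint (Sys.supp A) U := fun S =>
    Finset.disjoint_right.2 fun z hz hzA => by
      obtain ⟨a, ha, hza⟩ := Finset.mem_biUnion.1 hz
      exact hclosed S a ha z hza hzA
  have hsub := Finset.sum_le_sum_of_subset_of_nonneg
    (Finset.subset_univ (((Sys.supp A₁ ∪ Sys.supp A₂) ∪ Sys.supp A₃) ∪ U))
    (f := fun x : G => (Nat.card (centralizer ({x} : Set G)) : ℤ)) fun _ _ _ => Int.natCast_nonneg _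
  rw [Finset.sum_union (Finset.disjoint_union_left.2 ⟨Finset.disjoint_union_left.2
      ⟨hUd T.S₁, hUd T.S₂⟩, hUd T.S₃⟩),
    Finset.sum_union (Finset.disjoint_union_left.2 ⟨T.S₁.supp_disjoint T.S₃ T.n₁₃,
      T.S₂.supp_disjoint T.S₃ T.n₂₃⟩),
    Finset.sum_union (T.S₁.supp_disjoint T.S₂ T.n₁₂), hU, Finset.sum_biUnion hdisj,
    Finset.sum_congr rfl fun z _ => sum_classOf z, Finset.sum_const, hcardZ, nsmul_eq_mul,
    T.S₁.sum_supp_centralizer D.hr₁, T.S₂.sum_supp_centralizer D.hr₂, T.S₃.sum_supp_centralizer D.hr₃,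
    sum_centralizer_card, D.count] at hsub
  push_cast at hsub
  have hG : (0 : ℤ) < Nat.card G := by exact_mod_cast Nat.card_pos
  linarith

/-- There is no element of order four in `PSL₂` in characteristic two. -/
theorem psl_two_even {F : Type} [Field F] [Fintype F] (n : ℕ) (hF : Fintype.card F = 2 ^ n)
    (y : Matrix.ProjectiveSpecialLinearGroup (Fin 2) F) : orderOf y ≠ 4 := by
  intro hy
  have h2 : (2 : F) = 0 := by
    have h0 : ((Fintype.card F : ℕ) : F) = 0 := Nat.cast_card_eq_zero F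
    rw [hF, Nat.cast_pow, Nat.cast_ofNat] at h0
    exact eq_zero_of_pow_eq_zero h0
  obtain ⟨s, rfl⟩ := QuotientGroup.mk_surjective y
  have h4 := pow_orderOf_eq_one (QuotientGroup.mk s : Matrix.ProjectiveSpecialLinearGroup (Fin 2) F)
  rw [hy, ← QuotientGroup.mk_pow, QuotientGroup.eq_one_iff,
    Matrix.SpecialLinearGroup.mem_center_iff] at h4
  obtain ⟨r, hr, hr'⟩ := h4
  rw [Fintype.card_fin] at hr
  have hr1 : r = 1 := by
    have h : (r - 1) ^ 2 = 0 := by linear_combination hr + (1 - r) * h2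
    exact sub_eq_zero.1 (eq_zero_of_pow_eq_zero h)
  rw [hr1, Matrix.scalar_apply, Matrix.diagonal_one, Matrix.SpecialLinearGroup.coe_pow] at hr'
  set M : Matrix (Fin 2) (Fin 2) F := (s : Matrix (Fin 2) (Fin 2) F) with hM
  have hdet : M 0 0 * M 1 1 - M 0 1 * M 1 0 = 1 := by
    rw [← Matrix.det_fin_two]; exact s.2
  set τ := M 0 0 + M 1 1 with hτ
  have hsq : M * M = τ • M + 1 := by
    ext i j
    fin_cases i <;> fin_cases j <;>
      simp [Matrix.mul_apply, Fin.sum_univ_two, hτ] <;>
      first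
        | ring1
        | linear_combination -hdet - h2
        | linear_combination -hdet + (-1) * h2
  have hM4 : M ^ 4 = (τ * τ * τ) • M + (τ * τ + 1) • (1 : Matrix (Fin 2) (Fin 2) F) := by
    have h22 : (τ • M + 1) * (τ • M + 1) = (τ * τ) • (M * M) + (2 : F) • (τ • M) + 1 := by
      rw [two_smul]
      simp only [add_mul, mul_add, mul_one, one_mul, Matrix.smul_mul, Matrix.mul_smul, smul_smul]
      abel
    rw [show M ^ 4 = (M * M) * (M * M) by rw [← pow_two, ← pow_two, ← pow_mul], hsq, h22, hsq, h2,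
      zero_smul, add_zero, smul_add, smul_smul, add_smul, one_smul, add_assoc]
  rw [hM4] at hr'
  have hne : (QuotientGroup.mk s : Matrix.ProjectiveSpecialLinearGroup (Fin 2) F) ^ 2 ≠ 1 := fun h => by
    have := orderOf_dvd_of_pow_eq_one h
    rw [hy] at this
    norm_num at this
  refine hne ?_
  rw [← QuotientGroup.mk_pow, QuotientGroup.eq_one_iff, Matrix.SpecialLinearGroup.mem_center_iff]
  refine ⟨1, one_pow _, ?_⟩
  rw [Matrix.scalar_apply, Matrix.diagonal_one, Matrix.SpecialLinearGroup.coe_pow, pow_two, ← hM, hsq]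
  rcases eq_or_ne τ 0 with h0 | h0
  · rw [h0, zero_smul, zero_add]
  · exfalso
    have h01 := congrFun (congrFun hr' 0) 1
    have h10 := congrFun (congrFun hr' 1) 0
    have h00 := congrFun (congrFun hr' 0) 0
    have h11 := congrFun (congrFun hr' 1) 1
    simp only [Matrix.add_apply, Matrix.smul_apply, smul_eq_mul, Matrix.one_apply, Fin.zero_eq_one_iff,
      Fin.one_eq_zero_iff, OfNat.ofNat_ne_one, if_false, if_true, mul_zero, add_zero, mul_one] at h00 h01 h10 h11
    have h3 : τ * τ * τ ≠ 0 := mul_ne_zero (mul_ne_zero h0 h0) h0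
    have e : M 0 0 = M 1 1 := mul_left_cancel₀ h3 (by linear_combination h11 - h00)
    exact h0 (by rw [hτ, ← e]; linear_combination (M 0 0) * h2)

theorem main_aux [IsSimpleGroup G] (hG : ¬ IsMulCommutative G) (T : Triple A₁ A₂ A₃) :
    Cfsg.Lie.IsoSuzuki G := by
  classical
  haveI : Fact (Nat.Prime 2) := ⟨Nat.prime_two⟩
  obtain ⟨D⟩ := T.exists_summary
  have hcit := T.cit D
  -- the order of the centraliser is the full power of two
  obtain ⟨P⟩ := (inferInstance : Nonempty (Sylow 2 G))
  have hwP : IsPGroup 2 ↥(centralizer ({D.w} : Set G)) := hcit D.w D.hw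
  have hCP : Nat.card (centralizer ({D.w} : Set G)) = 2 ^ (Nat.card G).factorization 2 := by
    haveI : Nontrivial (P : Subgroup G) := by
      rw [← Finite.one_lt_card_iff_nontrivial, P.card_eq_multiplicity]
      refine Nat.one_lt_pow ?_ one_lt_two
      refine (Nat.prime_two.factorization_pos_of_dvd Nat.card_pos.ne' ?_).ne'
      rw [← D.hw]; exact orderOf_dvd_natCard _
    haveI : Nontrivial (center (P : Subgroup G)) := P.isPGroup'.center_nontrivial
    obtain ⟨z, hz⟩ := exists_prime_orderOf_dvd_card' (G := center (P : Subgroup G)) 2 (by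
        obtain ⟨k, hk⟩ := IsPGroup.iff_card.1 (P.isPGroup'.to_subgroup (center (P : Subgroup G)))
        rw [hk]
        refine dvd_pow_self 2 fun hk0 => ?_
        rw [hk0, pow_zero] at hk
        exact (Finite.one_lt_card_iff_nontrivial.2 inferInstance).ne' hk)
    have hzo : orderOf (((z : (P : Subgroup G))) : G) = 2 := by
      rw [Subgroup.orderOf_coe, Subgroup.orderOf_coe, hz]
    obtain ⟨x, hx⟩ := isConj_iff.1 (D.one _ hzo)
    have hzle : (P : Subgroup G) ≤ centralizer ({((z : (P : Subgroup G)) : G)} : Set G) := fun g hg =>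
      mem_centralizer_singleton_iff.2 (congrArg Subtype.val (mem_center_iff.1 z.2 ⟨g, hg⟩))
    have hle : Nat.card (P : Subgroup G) ≤ Nat.card (centralizer ({D.w} : Set G)) := by
      refine Nat.le_of_dvd Nat.card_pos ?_
      rw [Nat.card_congr ((P : Subgroup G).equivMapOfInjective (MulAut.conj x⁻¹).toMonoidHom
        (MulAut.conj x⁻¹).injective).toEquiv]
      refine card_dvd_of_le ?_
      rintro _ ⟨g, hg, rfl⟩
      have hc := mem_centralizer_singleton_iff.1 (hzle hg)
      rw [← hx] at hc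
      rw [mem_centralizer_singleton_iff]
      show x⁻¹ * g * x⁻¹⁻¹ * D.w = D.w * (x⁻¹ * g * x⁻¹⁻¹)
      calc _ = x⁻¹ * (g * (x * D.w * x⁻¹)) * x := by group
        _ = x⁻¹ * ((x * D.w * x⁻¹) * g) * x := by rw [hc]
        _ = _ := by group
    rw [P.card_eq_multiplicity] at hle
    obtain ⟨k, hk⟩ := IsPGroup.iff_card.1 hwP
    have hkle : k ≤ (Nat.card G).factorization 2 :=
      (Nat.prime_two.pow_dvd_iff_le_factorization Nat.card_pos.ne').1 (hk ▸ card_subgroup_dvd_card _)
    rw [hk] at hle ⊢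
    exact le_antisymm (Nat.pow_le_pow_right two_pos hkle) hle
  set C := Nat.card (centralizer ({D.w} : Set G)) with hCdef
  -- the odd part
  have hJ := D.Q.J_eq
  have hx := D.Q.x_eq
  have hcent := D.hcent
  rw [hx, sub_zero] at hcent
  have hGC : (Nat.card G : ℤ) = (C : ℤ) * (D.Q.n₁ * (D.Q.n₂ * D.Q.n₃) * D.Q.J) := by rw [D.hG]; ring
  set O := D.Q.n₁ * (D.Q.n₂ * D.Q.n₃) * D.Q.J with hOdef
  have hOodd : Odd O := by
    rcases Int.even_or_odd O with ⟨b, hb⟩ | h
    · exfalso
      refine Nat.pow_succ_factorization_not_dvd Nat.card_pos.ne' Nat.prime_two (n := Nat.card G) ?_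
      rw [← Int.natCast_dvd_natCast, pow_succ]
      push_cast
      refine ⟨b, ?_⟩
      rw [hGC, hb, hCP]; push_cast; ring
    · exact h
  have hσ1 : D.Q.σ = 1 := by
    have hodd : Odd D.Q.σ := by
      have h := hOodd
      rw [hOdef, hJ, Int.odd_mul, Int.odd_mul] at h
      exact (Int.odd_mul.1 h.2).2
    have hdvd : D.Q.σ.natAbs ∣ 2 ^ (Nat.card G).factorization 2 := by
      rw [← hCP, ← Int.natCast_dvd_natCast, Int.natAbs_dvd, hcent]
      exact dvd_mul_right _ _
    obtain ⟨i, -, hi⟩ := (Nat.dvd_prime_pow Nat.prime_two).1 hdvd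
    have h1 := D.Q.hσ
    rcases i with _ | i
    · rw [pow_zero] at hi; omega
    · exfalso
      have h2 := Int.natAbs_odd.2 hodd
      rw [hi, Nat.odd_pow_iff (Nat.succ_ne_zero i)] at h2
      exact absurd h2 (by decide)
  rw [hσ1, one_mul] at hcent
  have hdC : (C : ℤ) = D.Q.d := hcent
  have hd80 := D.Q.d_ge
  have hN81 := D.Q.N_ge
  have hNdvd : D.Q.n₂ * D.Q.n₃ ∣ (Nat.card G : ℤ) :=
    ⟨D.Q.n₁ * (C * D.Q.J), by rw [D.hG]; ring⟩
  have hns : ¬ Group.IsSolvable G := fun hs => by
    haveI := hs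
    exact hG ⟨⟨fun a b => IsSimpleGroup.comm_iff_isSolvable.mpr hs a b⟩⟩
  rcases Cfsg.Lib.CITGroups.classification_of (Cfsg.Lie.IsoSuzuki G)
      (fun M hZ => Cfsg.Lib.SuzukiUnique.zassenhaus_iso (G := G) (Ω := G ⧸ M) hZ) hcit hG with
    ⟨F, i1, i2, hq, ⟨e⟩⟩ | ⟨F, i1, i2, hq, ⟨e⟩⟩ | hS
  · exfalso
    have hcard := Cfsg.Lib.Classical.SmallPSL.card_psl (F := F) (q := Fintype.card F) rfl
    rw [← Nat.card_congr e.toEquiv] at hcard
    rcases hq with hq | ⟨n, hn⟩ | ⟨hp, j, hj⟩
    · rw [hq, show Nat.gcd 2 (9 - 1) = 2 from rfl, show 9 * (9 ^ 2 - 1) = 720 from rfl] at hcard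
      have h360 : Nat.card G = 360 := by omega
      have hC8 : C ∣ 360 := h360 ▸ card_subgroup_dvd_card _
      have : C ∣ 8 := by
        refine Nat.Coprime.dvd_of_dvd_mul_right (m := 8) (n := 45) ?_ (by norm_num; exact hC8)
        rw [hCP]
        exact Nat.Coprime.pow_left _ (by norm_num)
      have := Nat.le_of_dvd (by norm_num) this
      omega
    · obtain ⟨y, -, hy, -⟩ := T.S₂.exists_order_four
      exact psl_two_even n hn (e y) (by rw [e.orderOf_eq, hy])
    · set p := Fintype.card F with hpdef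
      have hp2 : p ≠ 2 := by
        intro h
        rcases hj with hj | hj <;> rw [h] at hj
        · obtain ⟨y, -, hy, -⟩ := T.S₂.exists_order_four
          exact psl_two_even 1 (by rw [← hpdef, h]; rfl) (e y) (by rw [e.orderOf_eq, hy])
        · obtain ⟨y, -, hy, -⟩ := T.S₂.exists_order_four
          exact psl_two_even 1 (by rw [← hpdef, h]; rfl) (e y) (by rw [e.orderOf_eq, hy])
      obtain ⟨b, hb⟩ := hp.odd_of_ne_two hp2
      have hgcd : Nat.gcd 2 (p - 1) = 2 := Nat.gcd_eq_left ⟨b, by omega⟩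
      rw [hgcd] at hcard
      have hcardZ : 2 * (Nat.card G : ℤ) = (p : ℤ) * ((p : ℤ) - 1) * ((p : ℤ) + 1) := by
        have h1 : 1 ≤ p ^ 2 := Nat.one_le_pow _ _ hp.pos
        have h2 : ((2 * Nat.card G : ℕ) : ℤ) = ((p * (p ^ 2 - 1) : ℕ) : ℤ) := by rw [hcard]
        push_cast [h1] at h2
        linear_combination h2
      have hsplit : (C : ℤ) = (p : ℤ) - 1 ∨ (C : ℤ) = (p : ℤ) + 1 := by
        have key : ∀ (j : ℕ) (R : ℤ), (Nat.card G : ℤ) = (2 : ℤ) ^ j * R → Odd R → (C : ℤ) = 2 ^ j := by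
          intro j R hR hRodd
          rw [hGC, hCP] at hR
          push_cast at hR
          have h1 : ((2 : ℤ) ^ (Nat.card G).factorization 2) ∣ 2 ^ j :=
            IsCoprime.dvd_of_dvd_mul_right
              (IsCoprime.pow_left (by
                obtain ⟨r, hr⟩ := hRodd
                exact ⟨-r, 1, by linear_combination hr⟩)) ⟨O, hR.symm⟩
          have h2 : (2 : ℤ) ^ j ∣ 2 ^ (Nat.card G).factorization 2 :=
            IsCoprime.dvd_of_dvd_mul_right
              (IsCoprime.pow_left (by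
                obtain ⟨r, hr⟩ := hOodd
                exact ⟨-r, 1, by linear_combination hr⟩)) ⟨R, hR⟩
          rw [hCP]
          push_cast
          exact Int.dvd_antisymm (by positivity) (by positivity) h1 h2
        have hj2 : 2 ≤ j := by
          by_contra h
          push Not at h
          interval_cases j
          · omega
          · rcases hj with hj | hj
            · have h3 : p = 3 := by omega
              rw [h3, show 3 * (3 ^ 2 - 1) = 24 from rfl] at hcard
              have : C ∣ 12 := (show Nat.card G = 12 by omega) ▸ card_subgroup_dvd_card _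
              have := Nat.le_of_dvd (by norm_num) this
              omega
            · have := hp.two_le
              omega
        obtain ⟨i, rfl⟩ : ∃ i, j = i + 2 := ⟨j - 2, by omega⟩
        rcases hj with hj | hj
        · refine Or.inl ?_
          rw [key (i + 2) ((p : ℤ) * (2 * 2 ^ i * 1 + 1)) ?_ ?_]
          · rw [hj]; push_cast; ring
          · have hpz : (p : ℤ) = 2 ^ (i + 2) + 1 := by rw [hj]; push_cast; ring
            refine mul_left_cancel₀ (show (2 : ℤ) ≠ 0 by norm_num) ?_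
            rw [hcardZ, hpz]; ring
          · exact Int.odd_mul.2 ⟨by exact_mod_cast (⟨b, hb⟩ : Odd p), ⟨2 ^ i, by ring⟩⟩
        · refine Or.inr ?_
          rw [key (i + 2) ((p : ℤ) * (2 * 2 ^ i * 1 - 1)) ?_ ?_]
          · have hpz : (p : ℤ) + 1 = 2 ^ (i + 2) := by exact_mod_cast hj
            rw [hpz]
          · have hpz : (p : ℤ) = 2 ^ (i + 2) - 1 := by
              have : (p : ℤ) + 1 = 2 ^ (i + 2) := by exact_mod_cast hj
              linarith
            refine mul_left_cancel₀ (show (2 : ℤ) ≠ 0 by norm_num) ?_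
            rw [hcardZ, hpz]; ring
          · exact Int.odd_mul.2 ⟨by exact_mod_cast (⟨b, hb⟩ : Odd p), ⟨2 ^ i - 1, by ring⟩⟩
      have hd : D.Q.d + D.Q.c = D.Q.k * (D.Q.n₂ * D.Q.n₃) := D.Q.hd
      set N := D.Q.n₂ * D.Q.n₃ with hNdef
      have hnotp : ¬ (p : ℤ) = D.Q.k * N := by
        intro h
        have h2 : D.Q.n₂ ∣ (p : ℤ) := ⟨D.Q.k * D.Q.n₃, by rw [h, hNdef]; ring⟩
        have hn2 := D.Q.h₂
        obtain ⟨a, ha⟩ : ∃ a : ℕ, D.Q.n₂ = a := ⟨D.Q.n₂.toNat, by omega⟩
        rw [ha, Int.natCast_dvd_natCast] at h2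
        rcases hp.eq_one_or_self_of_dvd a h2 with h3 | h3
        · omega
        · rw [ha, h3] at hNdef
          have h4 : (p : ℤ) * (D.Q.k * D.Q.n₃) = p * 1 := by rw [mul_one]; nth_rewrite 2 [h]; rw [hNdef]; ring
          have h5 := mul_left_cancel₀ (by exact_mod_cast hp.ne_zero) h4
          have h6 := Int.eq_one_of_mul_eq_one_left (by have := D.Q.h₃; omega) h5
          have := D.Q.h₃
          omega
      have h6 : N ∣ (6 : ℤ) := by
        have hN2 : N ∣ (p : ℤ) * ((p : ℤ) - 1) * ((p : ℤ) + 1) := hcardZ ▸ hNdvd.mul_left 2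
        obtain ⟨q, hq⟩ := hN2
        rcases hsplit with hC' | hC' <;> rw [hdC] at hC' <;> rcases D.Q.hc with hc | hc <;> rw [hc, hC'] at hd
        · exact absurd (by linarith) hnotp
        · refine ⟨q - D.Q.k * (D.Q.k * N * (D.Q.k * N) + 6 * (D.Q.k * N) + 11), ?_⟩
          rw [show (p : ℤ) = D.Q.k * N + 2 by linarith] at hq
          linear_combination hq
        · refine ⟨-q + D.Q.k * (D.Q.k * N * (D.Q.k * N) - 6 * (D.Q.k * N) + 11), ?_⟩
          rw [show (p : ℤ) = D.Q.k * N - 2 by linarith] at hq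
          linear_combination -hq
        · exact absurd (by linarith) hnotp
      have := Int.le_of_dvd (by norm_num) h6
      omega
  · exfalso
    have hcard := Cfsg.Lib.LThreeFourPar.card_psl_four (F := F) hq
    rw [← Nat.card_congr e.toEquiv] at hcard
    have hC' : C ∣ 64 := by
      refine Nat.Coprime.dvd_of_dvd_mul_right (m := 64) (n := 315) ?_ (by
        norm_num; rw [← hcard]; exact card_subgroup_dvd_card _)
      rw [hCP]
      exact Nat.Coprime.pow_left _ (by norm_num)
    have := Nat.le_of_dvd (by norm_num) hC'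
    omega
  · exact hS

/-- Suzuki's characterisation by a system of self-centralising subgroups. -/
theorem main {G : Type u} [Group G] [Finite G] [IsSimpleGroup G] (hG : ¬ IsMulCommutative G)
    (A₁ A₂ A₃ : Subgroup G)
    (hsc : ∀ A ∈ ({A₁, A₂, A₃} : Set (Subgroup G)), ∀ a ∈ A, a ≠ 1 → centralizer ({a} : Set G) = A)
    (hnc : ∀ g : G, A₁.map (MulAut.conj g).toMonoidHom ≠ A₂ ∧ A₁.map (MulAut.conj g).toMonoidHom ≠ A₃ ∧
      A₂.map (MulAut.conj g).toMonoidHom ≠ A₃)
    (h₁ : A₁.relIndex (normalizer (A₁ : Set G)) = 2) (h₂ : A₂.relIndex (normalizer (A₂ : Set G)) = 4)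
    (h₃ : A₃.relIndex (normalizer (A₃ : Set G)) = 4)
    (hn₁ : 5 ≤ Nat.card A₁) (hn₂ : 5 < Nat.card A₂) (hn₃ : 5 < Nat.card A₃)
    (hord : Nat.card G ≤ 3 * Nat.card A₁ ^ 2 * Nat.card A₂ ^ 2 * Nat.card A₃ ^ 2) :
    Cfsg.Lie.IsoSuzuki G := by
  haveI := Fintype.ofFinite G
  exact main_aux hG (A₁ := A₁) (A₂ := A₂) (A₃ := A₃)
    ⟨⟨hsc A₁ (by simp), h₁, Or.inl rfl, hn₁⟩, ⟨hsc A₂ (by simp), h₂, Or.inr rfl, hn₂.le⟩,
      ⟨hsc A₃ (by simp), h₃, Or.inr rfl, hn₃.le⟩, hn₂, hn₃, fun g => (hnc g).1, fun g => (hnc g).2.1,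
      fun g => (hnc g).2.2, hord⟩

end Cfsg.Lib.SuzSystem
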