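import Mathlib

/-!
# The numbers of a self-centralisation system of Suzuki type

Integer arithmetic for three strongly self-centralising subgroups with indices `2, 4, 4`:
the character degrees leave no room for a character that vanishes on all three subgroups.
-/

set_option autoImplicit false

namespace Cfsg.Lib.SuzSystem

/-- The numerical data: `d + c = k N` with `N = n₂ n₃`, the order of the group is `n₁ N k σ² d`,
the centraliser of an involution has order `σ (d - x)` and index `J` in the `2`-part `k σ² d`. -/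
structure Num where
  n₁ : ℤ
  n₂ : ℤ
  n₃ : ℤ
  c : ℤ
  k : ℤ
  d : ℤ
  σ : ℤ
  x : ℤ
  J : ℤ
  h₁ : 5 ≤ n₁
  h₁' : Odd n₁
  h₂ : 9 ≤ n₂
  h₂' : n₂ % 4 = 1
  h₃ : 9 ≤ n₃
  h₃' : n₃ % 4 = 1
  hc : c = 1 ∨ c = -1
  hk : 1 ≤ k
  hd : d + c = k * (n₂ * n₃)
  hd₁ : n₁ ∣ d - c
  hσ : 1 ≤ σ
  hσ₁ : n₁ ∣ σ * σ - 1
  hCJ : σ * (d - x) * J = k * σ * σ * d
  hdx : 0 < d - x
  hC : Even (σ * (d - x))
  hbound : k * σ * σ * d ≤ 3 * n₁ * (n₂ * n₃)
  hx₁ : n₁ * |x| ≤ d + (n₁ - 1) * c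
  hx₂ : n₂ * |x| ≤ d - (n₂ - 1) * c

namespace Num

theorem N_ge (Q : Num) : 81 ≤ Q.n₂ * Q.n₃ := by nlinarith [Q.h₂, Q.h₃]

theorem d_ge (Q : Num) : 80 ≤ Q.d := by
  have := Q.N_ge
  have h1 : Q.n₂ * Q.n₃ ≤ Q.k * (Q.n₂ * Q.n₃) := le_mul_of_one_le_left (by omega) Q.hk
  have := Q.hd
  rcases Q.hc with h | h <;> rw [h] at this <;> omega

theorem n₁_le (Q : Num) : Q.n₁ ≤ Q.d + 1 := by
  have hd := Q.d_ge
  have hpos : 0 < Q.d - Q.c := by rcases Q.hc with h | h <;> omega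
  have := Int.le_of_dvd hpos Q.hd₁
  rcases Q.hc with h | h <;> omega

theorem P_sq_le (Q : Num) : (Q.k * Q.σ) * (Q.k * Q.σ) * Q.d ≤ 3 * Q.n₁ * (Q.d + Q.c) := by
  have h := mul_le_mul_of_nonneg_left Q.hbound (show (0 : ℤ) ≤ Q.k by linarith [Q.hk])
  rw [Q.hd]
  linarith [h]

theorem P_sq_le' (Q : Num) : (Q.k * Q.σ) * (Q.k * Q.σ) * Q.d ≤ 3 * Q.n₁ * (Q.d + 1) := by
  refine Q.P_sq_le.trans (mul_le_mul_of_nonneg_left ?_ (by linarith [Q.h₁]))
  rcases Q.hc with h | h <;> omega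

theorem J_eq_aux (Q : Num) : (Q.d - Q.x) * Q.J = Q.k * Q.σ * Q.d := by
  have h : Q.σ * ((Q.d - Q.x) * Q.J) = Q.σ * (Q.k * Q.σ * Q.d) := by linarith [Q.hCJ]
  exact mul_left_cancel₀ (by linarith [Q.hσ]) h

theorem x_eq (Q : Num) : Q.x = 0 := by
  by_contra hx
  set P := Q.k * Q.σ with hP
  have hP1 : 1 ≤ P := one_le_mul_of_one_le_of_one_le Q.hk Q.hσ
  have hd := Q.d_ge
  have hn := Q.n₁_le
  have h1 := Q.h₁
  have hJ := Q.J_eq_aux
  have hJ0 : 0 < Q.J := by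
    have : 0 < (Q.d - Q.x) * Q.J := by rw [hJ]; exact mul_pos (by linarith) (by linarith)
    exact pos_of_mul_pos_right this Q.hdx.le
  have hX : 1 ≤ |Q.x| := Int.one_le_abs hx
  have hkey : (Q.J - P) * Q.d = Q.J * Q.x := by linarith [hJ]
  have hne : Q.J - P ≠ 0 := fun h => by
    rw [h, zero_mul] at hkey
    rcases mul_eq_zero.1 hkey.symm with h' | h' <;> omega
  have h2 : Q.d ≤ Q.J * |Q.x| := by
    have h := congrArg abs hkey
    rw [abs_mul, abs_mul, abs_of_pos (show (0:ℤ) < Q.d by linarith), abs_of_pos hJ0] at h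
    rw [← h]
    exact le_mul_of_one_le_left (by linarith) (Int.one_le_abs hne)
  have h3 : Q.d - Q.x ≤ P * |Q.x| := by
    have := mul_le_mul_of_nonneg_left h2 Q.hdx.le
    have h' : (Q.d - Q.x) * Q.d ≤ (P * |Q.x|) * Q.d := by
      calc (Q.d - Q.x) * Q.d ≤ (Q.d - Q.x) * (Q.J * |Q.x|) := this
        _ = ((Q.d - Q.x) * Q.J) * |Q.x| := by ring
        _ = (P * |Q.x|) * Q.d := by rw [hJ]; ring
    exact le_of_mul_le_mul_right h' (by linarith)
  have h4 : Q.d ≤ (P + 1) * |Q.x| := by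
    have := le_abs_self Q.x
    linarith
  have hsq := Q.P_sq_le'
  have hx1 := Q.hx₁
  have hx2 := Q.hx₂
  rcases Q.hc with hc | hc <;> rw [hc] at hx1 hx2
  · have h5 : Q.n₂ ≤ P := by
      by_contra h5
      push Not at h5
      nlinarith [Q.h₂]
    have hP9 : 9 ≤ P := by linarith [Q.h₂]
    have hn26 : 26 ≤ Q.n₁ := by
      by_contra h
      push Not at h
      have h81 : 81 * Q.d ≤ P * P * Q.d :=
        mul_le_mul_of_nonneg_right (mul_le_mul hP9 hP9 (by norm_num) (by linarith)) (by linarith)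
      have h75 : 3 * Q.n₁ * (Q.d + 1) ≤ 75 * (Q.d + 1) :=
        mul_le_mul_of_nonneg_right (by linarith) (by linarith)
      linarith
    rcases (show |Q.x| = 1 ∨ 2 ≤ |Q.x| by omega) with hx' | hx'
    · rw [hx', mul_one] at h4
      have : (Q.d - 1) * (Q.d - 1) * Q.d ≤ P * P * Q.d :=
        mul_le_mul_of_nonneg_right (by nlinarith) (by linarith)
      nlinarith
    · have h6 : Q.n₁ ≤ 2 * P + 1 := by
        by_contra h6
        push Not at h6
        nlinarith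
      have : (Q.n₁ - 1) * (Q.n₁ - 1) * Q.d ≤ 4 * (P * P) * Q.d :=
        mul_le_mul_of_nonneg_right (by nlinarith) (by linarith)
      have h7 : 24 * Q.n₁ * Q.d ≤ (Q.n₁ - 1) * (Q.n₁ - 1) * Q.d :=
        mul_le_mul_of_nonneg_right (by nlinarith) (by linarith)
      nlinarith
  · have h5 : Q.n₁ ≤ P := by
      by_contra h5
      push Not at h5
      nlinarith
    have h8 : 5 * Q.n₁ * Q.d ≤ P * P * Q.d :=
      mul_le_mul_of_nonneg_right (mul_le_mul (by linarith) h5 (by linarith) (by linarith)) (by linarith)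
    have h9 : Q.n₁ * 80 ≤ Q.n₁ * Q.d := mul_le_mul_of_nonneg_left hd (by linarith)
    linarith

theorem J_eq (Q : Num) : Q.J = Q.k * Q.σ := by
  have h := Q.J_eq_aux
  rw [Q.x_eq, sub_zero] at h
  exact mul_left_cancel₀ (show Q.d ≠ 0 by linarith [Q.d_ge]) (by linarith)

theorem odd_k (Q : Num) : Odd Q.k := by
  rcases Int.even_or_odd Q.k with hk | hk
  swap
  · exact hk
  exfalso
  have hx := Q.x_eq
  have hk2 : 2 ≤ Q.k := by obtain ⟨a, ha⟩ := hk; have := Q.hk; omega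
  have hd : ¬ Even Q.d := by
    intro hd
    have h := Q.hd
    have h' : Even (Q.d + Q.c) := by rw [h]; exact hk.mul_right _
    rw [Int.even_add] at h'
    rcases Q.hc with h'' | h'' <;> rw [h''] at h' <;> simp [hd] at h'
  have hC := Q.hC
  rw [hx, sub_zero, Int.even_mul] at hC
  have hσ := hC.resolve_right hd
  have hσ2 : 2 ≤ Q.σ := by obtain ⟨a, ha⟩ := hσ; have := Q.hσ; omega
  have h1 : Q.n₁ ≤ Q.σ * Q.σ - 1 := Int.le_of_dvd (by nlinarith) Q.hσ₁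
  have h2 := Q.P_sq_le'
  have h3 : 4 * (Q.n₁ + 1) * Q.d ≤ (Q.k * Q.σ) * (Q.k * Q.σ) * Q.d := by
    refine mul_le_mul_of_nonneg_right ?_ (by linarith [Q.d_ge])
    nlinarith [mul_le_mul hk2 hk2 (by norm_num : (0:ℤ) ≤ 2) (by linarith : (0:ℤ) ≤ Q.k)]
  nlinarith [Q.d_ge, Q.h₁]

/-- The possibilities for `σ² = j n₁ + 1`. -/
theorem sigma_cases (Q : Num) : Q.σ * Q.σ = 1 ∨ (Q.σ * Q.σ = Q.n₁ + 1 ∧ Q.k = 1) ∨
    (Q.σ * Q.σ = 3 * Q.n₁ + 1 ∧ Q.k = 1 ∧ Q.c = 1 ∧ Q.d ≤ 3 * Q.n₁) := by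
  obtain ⟨j, hj⟩ := Q.hσ₁
  have h1 := Q.h₁
  have hd := Q.d_ge
  have hσσ : 1 ≤ Q.σ * Q.σ := one_le_mul_of_one_le_of_one_le Q.hσ Q.hσ
  have hj0 : 0 ≤ j := by nlinarith
  rcases eq_or_lt_of_le hj0 with hj' | hj'
  · exact Or.inl (by rw [← hj', mul_zero] at hj; linarith)
  have hsig : Q.n₁ + 1 ≤ Q.σ * Q.σ := by nlinarith
  have hk : Q.k = 1 := by
    by_contra hk
    have hk3 : 3 ≤ Q.k := by
      obtain ⟨a, ha⟩ := Q.odd_k
      have := Q.hk
      omega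
    have h2 := Q.P_sq_le'
    have h3 : 9 * (Q.n₁ + 1) * Q.d ≤ (Q.k * Q.σ) * (Q.k * Q.σ) * Q.d := by
      refine mul_le_mul_of_nonneg_right ?_ (by linarith)
      nlinarith [mul_le_mul hk3 hk3 (by norm_num : (0:ℤ) ≤ 3) (by linarith : (0:ℤ) ≤ Q.k)]
    nlinarith
  have h2 := Q.P_sq_le
  rw [hk, one_mul, show Q.σ * Q.σ = j * Q.n₁ + 1 by linarith] at h2
  have hj3 : j ≤ 3 := by
    by_contra hj3
    push Not at hj3
    have : 4 * Q.n₁ * Q.d ≤ j * Q.n₁ * Q.d :=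
      mul_le_mul_of_nonneg_right (mul_le_mul_of_nonneg_right (by linarith) (by linarith)) (by linarith)
    rcases Q.hc with hc | hc <;> rw [hc] at h2 <;> nlinarith
  interval_cases j
  · exact Or.inr (Or.inl ⟨by linarith, hk⟩)
  · exfalso
    have h8 : Q.σ * Q.σ = 2 * Q.n₁ + 1 := by linarith
    obtain ⟨b, hb⟩ : Odd Q.σ := by
      rcases Int.even_or_odd Q.σ with ⟨b, hb⟩ | h'
      · exfalso
        rw [hb, show (b + b) * (b + b) = 2 * (2 * (b * b)) by ring] at h8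
        omega
      · exact h'
    obtain ⟨a, ha⟩ := Q.h₁'
    obtain ⟨e, he⟩ : Even (b * (b + 1)) := Int.even_mul_succ_self b
    rw [hb, show (2 * b + 1) * (2 * b + 1) = 4 * (b * (b + 1)) + 1 by ring, he] at h8
    omega
  · have hc : Q.c = 1 := by
      rcases Q.hc with hc | hc
      · exact hc
      · exfalso; rw [hc] at h2; nlinarith
    refine Or.inr (Or.inr ⟨by linarith, hk, hc, ?_⟩)
    rw [hc] at h2
    linarith

end Num

/-- The data from the characters: `a, b` from the exceptional degrees of the second and third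
subgroup, `l` from the two characters of opposite sign, `B` the characters vanishing on all three. -/
structure DegData extends Num where
  a : ℤ
  b : ℤ
  l : ℤ
  B : ℤ
  τ : ℤ
  v : ℤ
  ha : n₂ ∣ a - k * σ * σ
  hb : n₃ ∣ b - k * σ * σ
  hlin : n₁ * (a * n₃ + b * n₂) = 2 * k * (n₂ * n₃) - 4 * c
  hord : 4 * k * σ * σ * d = 2 * k * k * (n₂ * n₃) + n₁ * (a * a * n₃ + b * b * n₂) +
    2 * n₁ * (n₂ * n₃) * (l * l + 2 * B)
  hB : 0 ≤ B
  hi : l * l + 2 * B ≤ 5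
  hτ : |τ| ≤ |l| + B
  hv : v = 1 ∨ v = -1
  hFS : 4 * J = v * (2 * k + a + b) + 4 * τ

/-- The case `σ = 1`, where the sign of the indicators is negative. -/
theorem case_one {n₁ n₂ n₃ c k p q g τ i N u M : ℤ} (h₂ : 9 ≤ n₂) (h₃ : 9 ≤ n₃)
    (hc : c = 1 ∨ c = -1) (hN : N = n₂ * n₃) (hu : n₂ + n₃ = 2 * u)
    (hp : 0 ≤ p) (hq : 0 ≤ q) (hpq : p + q = 2 * g) (hg : 1 ≤ g)
    (hΦ : p * p * n₂ + q * q * n₃ = 2 * g * k - 2 * i) (hi : 2 ≤ i)
    (hM : n₁ * M = k * N - 2 * c) (hMdef : M = k * u - g * N) (hM1 : 1 ≤ M)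
    (hkk : k * k ≤ 4 * n₁) (hκ : 9 * g + 1 ≤ k)
    (hW : p * n₂ + q * n₃ = 8 * k - 4 * τ) (hτ : |τ| ≤ 3) : False := by
  have hτ' := abs_le.1 hτ
  have hk10 : 10 ≤ k := by linarith
  rcases eq_or_lt_of_le hp with hp1 | hp1
  · subst hp1
    simp only [zero_mul, zero_add] at hpq hΦ hW
    have h1 : 2 * g * (q * n₃) ≤ 2 * g * k := by
      have : 2 * g * (q * n₃) = q * q * n₃ := by rw [← hpq]; ring
      linarith
    have := le_of_mul_le_mul_left h1 (by linarith)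
    linarith
  rcases eq_or_lt_of_le hq with hq1 | hq1
  · subst hq1
    simp only [zero_mul, add_zero] at hpq hΦ hW
    have h1 : 2 * g * (p * n₂) ≤ 2 * g * k := by
      have : 2 * g * (p * n₂) = p * p * n₂ := by rw [← hpq]; ring
      linarith
    have := le_of_mul_le_mul_left h1 (by linarith)
    linarith
  set D := p * n₂ - q * n₃ with hD
  have huW : 2 * u ≤ 8 * k - 4 * τ := by
    have h1 : n₂ ≤ p * n₂ := le_mul_of_one_le_left (by linarith) hp1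
    have h2 : n₃ ≤ q * n₃ := le_mul_of_one_le_left (by linarith) hq1
    linarith
  have h3 : 2 * (g * (8 * k - 4 * τ) - (2 * g * k - 2 * i)) = (q - p) * D := by
    rw [← hW, ← hΦ, hD]
    linear_combination -(p * n₂ + q * n₃) * hpq
  have h4 : 2 * g * (6 * k - 12) ≤ 2 * g * |D| := by
    have h5 : (q - p) * D ≤ |q - p| * |D| := by rw [← abs_mul]; exact le_abs_self _
    have h6 : |q - p| * |D| ≤ 2 * g * |D| :=
      mul_le_mul_of_nonneg_right (abs_le.2 ⟨by linarith, by linarith⟩) (abs_nonneg D)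
    have h7 : g * (6 * k - 12) ≤ g * (6 * k - 4 * τ) := mul_le_mul_of_nonneg_left (by linarith) (by linarith)
    linarith
  have hlow : 6 * k - 12 ≤ |D| := le_of_mul_le_mul_left h4 (by linarith)
  have hgN : g * N < k * u := by linarith
  have hgM : g * M ≤ 4 * u := by
    have h8 : k * k * M ≤ 4 * (k * N) + 8 := by
      have := mul_le_mul_of_nonneg_right hkk (show (0:ℤ) ≤ M by linarith)
      rcases hc with h | h <;> rw [h] at hM <;> linarith
    have h9 : g * (k * k * M) ≤ g * (4 * (k * N) + 8) := mul_le_mul_of_nonneg_left h8 (by linarith)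
    have h10 : (4 * k) * (g * N) < (4 * k) * (k * u) := mul_lt_mul_of_pos_left hgN (by linarith)
    have h11 : 8 * g ≤ k * k := by
      have : k * 1 ≤ k * k := mul_le_mul_of_nonneg_left (by linarith) (by linarith)
      linarith
    have h13 : k * k * (g * M) < k * k * (4 * u + 1) := by linarith
    have := lt_of_mul_lt_mul_left h13 (mul_self_nonneg k)
    linarith
  have hD2 : D * D = 2 * u * (-(2 * i)) + 4 * (g * M) := by
    have h14 : D * D = (n₂ + n₃) * (p * p * n₂ + q * q * n₃) - N * ((p + q) * (p + q)) := by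
      rw [hD, hN]; ring
    rw [h14, hu, hΦ, hpq, hMdef]; ring
  have hu0 : 0 ≤ u := by linarith
  have h15 : (6 * k - 12) * (6 * k - 12) ≤ D * D := by
    rw [← abs_mul_abs_self D]
    exact mul_le_mul hlow hlow (by linarith) (abs_nonneg D)
  have h16 : 2 * u * (-(2 * i)) ≤ 0 := mul_nonpos_of_nonneg_of_nonpos (by linarith) (by linarith)
  have h17 : 10 * k ≤ k * k := mul_le_mul_of_nonneg_right hk10 (by linarith)
  linarith

/-- The case `σ² = n₁ + 1`. -/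
theorem case_two {n₁ n₂ n₃ c p q g σ v τ i N u M κ : ℤ} (h₁ : 5 ≤ n₁) (h₁' : Odd n₁) (h₂ : 9 ≤ n₂)
    (h₃ : 9 ≤ n₃) (hc : c = 1 ∨ c = -1) (hv : v = 1 ∨ v = -1) (hN : N = n₂ * n₃)
    (hu : n₂ + n₃ = 2 * u) (hκ : κ = n₁ + 1) (hσ : σ * σ = κ) (hσ1 : 1 ≤ σ)
    (hp : 0 ≤ p) (hq : 0 ≤ q) (hpq : p + q = 2 * g) (hg : 1 ≤ g)
    (hΦ : p * p * n₂ + q * q * n₃ = 2 * g * κ + 2 * (1 - i)) (hi : 2 ≤ i)
    (hM : n₁ * M = N - 2 * c) (hMdef : M = κ * u - g * N) (hM1 : 1 ≤ M)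
    (hFS : 4 * σ = v * (2 + 2 * κ - (p * n₂ + q * n₃)) + 4 * τ) (hτ : i = 2 → |τ| ≤ 1) : False := by
  set D := p * n₂ - q * n₃ with hD
  have hu0 : 9 ≤ u := by linarith
  have hD2 : D * D = 2 * u * (2 * (1 - i)) + 4 * (g * M) := by
    have h14 : D * D = (n₂ + n₃) * (p * p * n₂ + q * q * n₃) - N * ((p + q) * (p + q)) := by
      rw [hD, hN]; ring
    rw [h14, hu, hΦ, hpq, hMdef]; ring
  have hgN : g * N < κ * u := by linarith
  have hgM : n₁ * (g * M) ≤ g * N + 2 * g := by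
    have h1 : n₁ * (g * M) = g * (N - 2 * c) := by rw [← hM]; ring
    rcases hc with h | h <;> rw [h] at h1 <;> linarith
  rcases eq_or_lt_of_le hi with hi2 | hi3
  swap
  · have h2 : u * 3 ≤ u * i := mul_le_mul_of_nonneg_left hi3 (by linarith)
    have h3 : 2 * u ≤ g * M := by have := mul_self_nonneg D; linarith
    have h4 : n₁ * (2 * u) ≤ n₁ * (g * M) := mul_le_mul_of_nonneg_left h3 (by linarith)
    have h5 : (n₁ - 1) * u < 2 * g := by rw [hκ] at hgN; linarith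
    have hN81 : 81 ≤ N := by rw [hN]; exact le_trans (by norm_num) (mul_le_mul h₂ h₃ (by norm_num) (by linarith))
    have h6 : ((n₁ - 1) * u) * N < (2 * g) * N := mul_lt_mul_of_pos_right h5 (by linarith)
    have h7 : ((n₁ - 1) * N) * u < (2 * κ) * u := by linarith
    have h8 := lt_of_mul_lt_mul_right h7 (by linarith)
    have h9 : (n₁ - 1) * 81 ≤ (n₁ - 1) * N := mul_le_mul_of_nonneg_left hN81 (by linarith)
    linarith
  subst hi2
  have hτ1 := abs_le.1 (hτ rfl)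
  obtain ⟨a, ha⟩ := h₁'
  have hσ4 : 4 ≤ σ := by
    have h10 : Even (σ * σ) := ⟨a + 1, by linarith⟩
    rw [Int.even_mul, or_self_iff] at h10
    obtain ⟨b, hb⟩ := h10
    by_contra h
    have : σ = 2 := by omega
    rw [this] at hσ
    linarith
  rcases eq_or_lt_of_le hp with hp1 | hp1
  · subst hp1
    simp only [zero_mul, zero_add] at hpq hΦ
    have h18 : g * (κ - 2 * g * n₃) = 1 := by
      rw [hpq] at hΦ; linarith
    have hg' : g = 1 := Int.eq_one_of_mul_eq_one_right (by linarith) h18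
    rw [hg', hκ] at h18
    omega
  rcases eq_or_lt_of_le hq with hq1 | hq1
  · subst hq1
    simp only [zero_mul, add_zero] at hpq hΦ
    have h18 : g * (κ - 2 * g * n₂) = 1 := by
      rw [hpq] at hΦ; linarith
    have hg' : g = 1 := Int.eq_one_of_mul_eq_one_right (by linarith) h18
    rw [hg', hκ] at h18
    omega
  set W := p * n₂ + q * n₃ with hW
  have huW : 2 * u ≤ W := by
    have h1 : n₂ ≤ p * n₂ := le_mul_of_one_le_left (by linarith) hp1
    have h2 : n₃ ≤ q * n₃ := le_mul_of_one_le_left (by linarith) hq1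
    linarith
  have hW18 : 18 * g ≤ W := by
    have := mul_le_mul_of_nonneg_left h₂ hp
    have := mul_le_mul_of_nonneg_left h₃ hq
    linarith
  have hWabs : 4 * σ - 6 ≤ |W - 2 * κ| ∧ W - 2 * κ ≤ 4 * σ + 6 := by
    rcases hv with hv | hv <;> rw [hv] at hFS
    · exact ⟨le_abs.2 (Or.inr (by linarith)), by linarith⟩
    · exact ⟨le_abs.2 (Or.inl (by linarith)), by linarith⟩
  have h3 : 2 * (g * W - (2 * g * κ + 2 * (1 - 2))) = (q - p) * D := by
    rw [← hΦ, hD, hW]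
    linear_combination -(p * n₂ + q * n₃) * hpq
  have h4 : 2 * g * (4 * σ - 8) ≤ 2 * g * |D| := by
    have h5 : |2 * g * (W - 2 * κ)| ≤ |(q - p) * D| + 4 := by
      calc |2 * g * (W - 2 * κ)| = |(q - p) * D - 4| := by rw [← h3]; ring_nf
        _ ≤ _ := abs_sub _ _
    rw [abs_mul (2 * g), abs_of_pos (show 0 < 2 * g by linarith), abs_mul (q - p)] at h5
    have h6 : |q - p| * |D| ≤ 2 * g * |D| :=
      mul_le_mul_of_nonneg_right (abs_le.2 ⟨by linarith, by linarith⟩) (abs_nonneg D)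
    have h7 : 2 * g * (4 * σ - 6) ≤ 2 * g * |W - 2 * κ| := mul_le_mul_of_nonneg_left hWabs.1 (by linarith)
    linarith
  have hlow : 4 * σ - 8 ≤ |D| := le_of_mul_le_mul_left h4 (by linarith)
  have h22 : 4 * κ ≤ D * D := by
    rw [← abs_mul_abs_self D, ← hσ]
    have h8 : (2 * σ) * (2 * σ) ≤ |D| * |D| :=
      mul_le_mul (by linarith) (by linarith) (by linarith) (abs_nonneg D)
    linarith
  have h23 : n₁ * κ < u + 2 * g := by
    have h24 : n₁ * (4 * κ) ≤ n₁ * (D * D) := mul_le_mul_of_nonneg_left h22 (by linarith)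
    rw [hD2] at h24
    rw [hκ] at hgN h24 ⊢
    linarith
  have hσκ : 4 * σ ≤ κ := by rw [← hσ]; exact mul_le_mul_of_nonneg_right hσ4 (by linarith)
  have h25 : 5 * κ ≤ n₁ * κ := mul_le_mul_of_nonneg_right h₁ (by linarith)
  linarith

/-- The case `σ² = 3 n₁ + 1`. -/
theorem case_three {n₁ n₂ n₃ g N u M : ℤ} (h₂ : 9 ≤ n₂) (h₂' : n₂ % 4 = 1) (h₃ : 9 ≤ n₃)
    (h₃' : n₃ % 4 = 1) (hN : N = n₂ * n₃) (hu : n₂ + n₃ = 2 * u)
    (hM : n₁ * M = N - 2) (hMdef : M = (3 * n₁ + 1) * u - g * N) (hM1 : 1 ≤ M)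
    (hd : N ≤ 3 * n₁ + 1) : False := by
  have hN81 : 81 ≤ N := by rw [hN]; exact le_trans (by norm_num) (mul_le_mul h₂ h₃ (by norm_num) (by linarith))
  have hM2 : M ≤ 2 := by
    by_contra h
    push Not at h
    have : n₁ * 3 ≤ n₁ * M := mul_le_mul_of_nonneg_left h (by linarith)
    linarith
  rcases (show M = 1 ∨ M = 2 by omega) with h | h
  · subst h
    rw [mul_one] at hM
    have h25 : N ∣ 5 * u + 1 := ⟨3 * u - g, by rw [hM] at hMdef; linarith⟩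
    have := Int.le_of_dvd (by linarith) h25
    have h1 : 9 * n₃ ≤ n₂ * n₃ := mul_le_mul_of_nonneg_right h₂ (by linarith)
    have h2 : n₂ * 9 ≤ n₂ * n₃ := mul_le_mul_of_nonneg_left h₃ (by linarith)
    linarith
  · subst h
    have : Even N := ⟨n₁ + 1, by linarith⟩
    rw [hN, Int.even_mul] at this
    rcases this with ⟨a, ha⟩ | ⟨a, ha⟩ <;> omega

/-- A negative excess forces both corrections to be non-positive. -/
theorem nonpos_of_excess {n₂ n₃ α β g κ N u : ℤ} (h₂ : 9 ≤ n₂) (h₃ : 9 ≤ n₃) (hg : 1 ≤ g)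
    (hN : N = n₂ * n₃) (hu : n₂ + n₃ = 2 * u) (hlt : κ * u < (g + 1) * N) (hαβ : α + β = -(2 * g))
    (hR : α * α * n₂ + β * β * n₃ + -(2 * g) * κ ≤ 2) : α ≤ 0 := by
  by_contra hα
  push Not at hα
  have hβ : 2 * g + 1 ≤ -β := by linarith
  have hb' : (2 * g + 1) * (2 * g + 1) ≤ β * β := by
    have := mul_le_mul hβ hβ (by linarith) (by linarith)
    linarith
  have hκlt : κ < 2 * (g + 1) * n₃ := by
    have h5 : 0 ≤ (g + 1) * (n₃ * n₃) := mul_nonneg (by linarith) (mul_self_nonneg _)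
    have h6 : κ * (n₂ + n₃) < 2 * (g + 1) * n₃ * (n₂ + n₃) := by
      rw [hN] at hlt
      have : κ * (n₂ + n₃) = 2 * (κ * u) := by rw [hu]; ring
      linarith
    exact lt_of_mul_lt_mul_right h6 (by linarith)
  have h7 : (2 * g) * κ < (2 * g) * (2 * (g + 1) * n₃) := mul_lt_mul_of_pos_left hκlt (by linarith)
  have h8 : (2 * g + 1) * (2 * g + 1) * n₃ ≤ β * β * n₃ := mul_le_mul_of_nonneg_right hb' (by linarith)
  have h9 : 1 * n₂ ≤ α * α * n₂ := mul_le_mul_of_nonneg_right (Int.lt_iff_add_one_le.1 (mul_self_pos.2 (by linarith : α ≠ 0))) (by linarith)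
  linarith

namespace DegData

theorem tau_le (Q : DegData) (hB : 1 ≤ Q.B) :
    |Q.τ| ≤ 3 ∧ (Q.l * Q.l + 2 * Q.B = 2 → |Q.τ| ≤ 1) := by
  have h := Q.hτ
  have hi := Q.hi
  have hl : |Q.l| ≤ 1 := by
    by_contra hl
    push Not at hl
    have h2 : 2 * 2 ≤ |Q.l| * |Q.l| := mul_le_mul hl hl (by norm_num) (abs_nonneg _)
    rw [abs_mul_abs_self] at h2
    omega
  have hll := mul_self_nonneg Q.l
  refine ⟨by omega, fun h2 => ?_⟩
  have hB1 : Q.B = 1 := by omega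
  rw [hB1] at h h2
  have : Q.l = 0 := by
    have : Q.l * Q.l = 0 := by linarith
    simpa using this
  rw [this, abs_zero] at h
  linarith

theorem even_n_sum (Q : DegData) : ∃ u, Q.n₂ + Q.n₃ = 2 * u ∧ Odd u ∧ 0 < u := by
  have := Q.h₂; have := Q.h₂'; have := Q.h₃; have := Q.h₃'
  refine ⟨(Q.n₂ + Q.n₃) / 2, by omega, ?_, by omega⟩
  rw [Int.odd_iff]; omega

set_option maxHeartbeats 1000000 in
/-- No character vanishes on all three subgroups. -/
theorem B_eq_zero (Q : DegData) : Q.B = 0 := by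
  by_contra hB0
  have hB : 1 ≤ Q.B := by have := Q.hB; omega
  have hi2 : 2 ≤ Q.l * Q.l + 2 * Q.B := by have := mul_self_nonneg Q.l; omega
  have hN81 : 81 ≤ Q.n₂ * Q.n₃ := Q.toNum.N_ge
  have hd80 := Q.toNum.d_ge
  have h1 := Q.h₁
  have h2 := Q.h₂
  have h3 := Q.h₃
  have hk1 := Q.hk
  have hNodd : Odd (Q.n₂ * Q.n₃) :=
    Int.odd_mul.2 ⟨Int.odd_iff.2 (by have := Q.h₂'; omega), Int.odd_iff.2 (by have := Q.h₃'; omega)⟩
  obtain ⟨α, hα⟩ := Q.ha
  obtain ⟨β, hβ⟩ := Q.hb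
  replace hα : Q.a = Q.k * Q.σ * Q.σ + α * Q.n₂ := by linarith
  replace hβ : Q.b = Q.k * Q.σ * Q.σ + β * Q.n₃ := by linarith
  obtain ⟨u, hu, huodd, hu0⟩ := Q.even_n_sum
  have hlin : Q.n₁ * (Q.k * Q.σ * Q.σ * (2 * u) + (α + β) * (Q.n₂ * Q.n₃)) =
      2 * Q.k * (Q.n₂ * Q.n₃) - 4 * Q.c := by
    rw [← Q.hlin, hα, hβ, ← hu]; ring
  have hd : Q.d = Q.k * (Q.n₂ * Q.n₃) - Q.c := by linarith [Q.hd]
  obtain ⟨j, hj⟩ := Q.hσ₁
  have hR : α * α * Q.n₂ + β * β * Q.n₃ + (α + β) * (Q.k * Q.σ * Q.σ) =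
      2 * (Q.k * Q.k * j - (Q.l * Q.l + 2 * Q.B)) := by
    have h := Q.hord
    have hl' := Q.hlin
    rw [hd, hα, hβ] at h
    rw [hα, hβ] at hl'
    refine mul_left_cancel₀ (show Q.n₁ * (Q.n₂ * Q.n₃) ≠ 0 from
      mul_ne_zero (by linarith) (by linarith)) ?_
    linear_combination (-1 : ℤ) * h - (Q.k * Q.σ * Q.σ) * hl' + (2 * Q.k * Q.k * (Q.n₂ * Q.n₃)) * hj
  have hj' : (Q.σ * Q.σ = 1 → j = 0) ∧ (Q.σ * Q.σ = Q.n₁ + 1 → j = 1) ∧
      (Q.σ * Q.σ = 3 * Q.n₁ + 1 → j = 3) :=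
    ⟨fun h => mul_left_cancel₀ (show Q.n₁ ≠ 0 by linarith) (by linarith),
      fun h => mul_left_cancel₀ (show Q.n₁ ≠ 0 by linarith) (by linarith),
      fun h => mul_left_cancel₀ (show Q.n₁ ≠ 0 by linarith) (by linarith)⟩
  have hR2 : α * α * Q.n₂ + β * β * Q.n₃ + (α + β) * (Q.k * Q.σ * Q.σ) ≤ 2 := by
    rw [hR]
    rcases Q.toNum.sigma_cases with h | ⟨h, hk⟩ | ⟨h, hk, -, -⟩
    · rw [hj'.1 h, mul_zero]; omega
    · rw [hj'.2.1 h, hk]; omega
    · rw [hj'.2.2 h, hk]; omega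
  have hσσ : 1 ≤ Q.σ * Q.σ := one_le_mul_of_one_le_of_one_le Q.hσ Q.hσ
  have hκ1 : 1 ≤ Q.k * Q.σ * Q.σ := by
    rw [mul_assoc]; exact one_le_mul_of_one_le_of_one_le Q.hk hσσ
  have hΦ0 : 0 ≤ α * α * Q.n₂ + β * β * Q.n₃ :=
    add_nonneg (mul_nonneg (mul_self_nonneg _) (by linarith)) (mul_nonneg (mul_self_nonneg _) (by linarith))
  obtain ⟨g, hg⟩ : ∃ g, α + β = -(2 * g) := by
    have he : Even (α + β) := by
      have h4 : Even (Q.n₁ * (Q.k * Q.σ * Q.σ * (2 * u) + (α + β) * (Q.n₂ * Q.n₃))) := by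
        rw [hlin]; exact ⟨Q.k * (Q.n₂ * Q.n₃) - 2 * Q.c, by ring⟩
      rw [Int.even_mul] at h4
      have h5 := h4.resolve_left (Int.not_even_iff_odd.2 Q.h₁')
      rw [Int.even_add] at h5
      have h6 : Even ((α + β) * (Q.n₂ * Q.n₃)) := h5.1 ⟨Q.k * Q.σ * Q.σ * u, by ring⟩
      rw [Int.even_mul] at h6
      exact h6.resolve_right (Int.not_even_iff_odd.2 hNodd)
    obtain ⟨g, hg⟩ := he
    exact ⟨-g, by omega⟩
  rw [hg] at hlin hR hR2
  have hM : Q.n₁ * (Q.k * Q.σ * Q.σ * u - g * (Q.n₂ * Q.n₃)) = Q.k * (Q.n₂ * Q.n₃) - 2 * Q.c := by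
    linarith
  rcases lt_trichotomy g 0 with hg0 | hg0 | hg0
  · have h9 : 9 ≤ α * α * Q.n₂ + β * β * Q.n₃ := by
      rcases eq_or_ne α 0 with h | h
      · have hβ0 : β ≠ 0 := by omega
        have : 1 * Q.n₃ ≤ β * β * Q.n₃ :=
          mul_le_mul_of_nonneg_right (Int.lt_iff_add_one_le.1 (mul_self_pos.2 hβ0)) (by linarith)
        rw [h]; linarith
      · have : 1 * Q.n₂ ≤ α * α * Q.n₂ :=
          mul_le_mul_of_nonneg_right (Int.lt_iff_add_one_le.1 (mul_self_pos.2 h)) (by linarith)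
        have : 0 ≤ β * β * Q.n₃ := mul_nonneg (mul_self_nonneg _) (by linarith)
        linarith
    have : 0 ≤ -(2 * g) * (Q.k * Q.σ * Q.σ) := mul_nonneg (by linarith) (by linarith)
    linarith
  · subst hg0
    have hκodd : Odd (Q.σ * Q.σ) := by
      have h5 : Odd (Q.n₁ * (Q.k * Q.σ * Q.σ * u - 0 * (Q.n₂ * Q.n₃))) := by
        rw [hM, Int.odd_sub]
        exact iff_of_true (Int.odd_mul.2 ⟨Q.toNum.odd_k, hNodd⟩) (even_two_mul _)
      rw [zero_mul, sub_zero, mul_assoc Q.k, Int.odd_mul, Int.odd_mul, Int.odd_mul] at h5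
      exact h5.2.1.2
    rcases Q.toNum.sigma_cases with h | ⟨h, -⟩ | ⟨h, -, -, -⟩
    · rw [hj'.1 h, mul_zero] at hR
      linarith
    all_goals
      rw [h] at hκodd
      obtain ⟨a, ha⟩ := Q.h₁'
      obtain ⟨b, hb⟩ := hκodd
      omega
  have hg1 : 1 ≤ g := hg0
  set κ := Q.k * Q.σ * Q.σ with hκ
  set N := Q.n₂ * Q.n₃ with hN
  set M := κ * u - g * N with hMdef
  have hkN : 81 ≤ Q.k * N := hN81.trans (le_mul_of_one_le_left (by linarith) Q.hk)
  have hMpos : 1 ≤ M := by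
    have : 0 < Q.n₁ * M := by rw [hM]; rcases Q.hc with h | h <;> omega
    have := pos_of_mul_pos_right this (by linarith)
    linarith
  have hkk : Q.k * Q.k ≤ 4 * Q.n₁ := by
    have h := Q.toNum.P_sq_le'
    have h' : (Q.k * Q.k) * Q.d ≤ (Q.k * Q.σ) * (Q.k * Q.σ) * Q.d := by
      refine mul_le_mul_of_nonneg_right ?_ (by linarith)
      calc Q.k * Q.k ≤ (Q.k * Q.k) * (Q.σ * Q.σ) := le_mul_of_one_le_right (mul_self_nonneg _) hσσ
        _ = _ := by ring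
    have h'' : Q.n₁ * 80 ≤ Q.n₁ * Q.d := mul_le_mul_of_nonneg_left hd80 (by linarith)
    refine le_of_mul_le_mul_right ?_ (show (0:ℤ) < Q.d by linarith)
    linarith
  have hMN : M < N := by
    by_contra hMN
    push Not at hMN
    have h4 : Q.n₁ * N ≤ Q.k * N + 2 := by
      have := mul_le_mul_of_nonneg_left hMN (show (0:ℤ) ≤ Q.n₁ by linarith)
      rcases Q.hc with h | h <;> rw [h] at hM <;> linarith
    have h5 : Q.n₁ ≤ Q.k := by
      by_contra h5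
      push Not at h5
      have : (Q.k + 1) * N ≤ Q.n₁ * N := mul_le_mul_of_nonneg_right (by linarith) (by linarith)
      linarith
    have : 5 * Q.n₁ ≤ Q.k * Q.k := mul_le_mul (by linarith) h5 (by linarith) (by linarith)
    linarith
  have hlt : κ * u < (g + 1) * N := by linarith
  have hκg : 9 * g + 1 ≤ κ := by
    by_contra hc'
    push Not at hc'
    have hN9u : 9 * u ≤ N := by
      have h1' : 9 * Q.n₃ ≤ Q.n₂ * Q.n₃ := mul_le_mul_of_nonneg_right h2 (by linarith)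
      have h2' : Q.n₂ * 9 ≤ Q.n₂ * Q.n₃ := mul_le_mul_of_nonneg_left h3 (by linarith)
      rw [hN]; linarith
    have : κ * u ≤ 9 * g * u := mul_le_mul_of_nonneg_right (by linarith) hu0.le
    have : g * (9 * u) ≤ g * N := mul_le_mul_of_nonneg_left hN9u (by linarith)
    linarith
  have hαle : α ≤ 0 := nonpos_of_excess h2 h3 hg1 hN hu hlt hg hR2
  have hβle : β ≤ 0 := nonpos_of_excess (α := β) (β := α) (n₂ := Q.n₃) (n₃ := Q.n₂) h3 h2 hg1 (hN.trans (mul_comm _ _)) (by linarith) hlt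
    (by linarith) (by linarith)
  have hτ := Q.tau_le hB
  have hJ := Q.toNum.J_eq
  have hFS := Q.hFS
  rw [hα, hβ, hJ] at hFS
  have hΦ : (-α) * (-α) * Q.n₂ + (-β) * (-β) * Q.n₃ =
      2 * g * κ + 2 * (Q.k * Q.k * j - (Q.l * Q.l + 2 * Q.B)) := by linarith
  have hp0 : 0 ≤ -α := by linarith
  have hq0 : 0 ≤ -β := by linarith
  rcases Q.toNum.sigma_cases with hσ | ⟨hσ, hk⟩ | ⟨hσ, hk, hc, hd3⟩
  · have hσ1 : Q.σ = 1 := by
      have : Q.σ * 1 ≤ Q.σ * Q.σ := mul_le_mul_of_nonneg_left Q.hσ (by linarith [Q.hσ])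
      linarith [Q.hσ]
    have hκk : κ = Q.k := by rw [hκ, hσ1]; ring
    rw [hj'.1 hσ, mul_zero, hκk] at hΦ
    rw [hσ1, hκk] at hFS
    have hW : (-α) * Q.n₂ + (-β) * Q.n₃ = 8 * Q.k - 4 * Q.τ := by
      rcases Q.hv with hv | hv <;> rw [hv] at hFS
      · exfalso
        have hτ3 := abs_le.1 hτ.1
        have := mul_le_mul_of_nonneg_left h2 hp0
        have := mul_le_mul_of_nonneg_left h3 hq0
        linarith
      · linarith
    exact case_one (i := Q.l * Q.l + 2 * Q.B) h2 h3 Q.hc hN hu hp0 hq0 (by linarith) hg1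
      (by linarith) hi2 hM (by rw [hMdef, hκk]) hMpos hkk (by linarith) hW hτ.1
  · rw [hj'.2.1 hσ, hk] at hΦ
    have hκn : κ = Q.n₁ + 1 := by rw [hκ, hk, one_mul, hσ]
    rw [hk] at hFS hM
    exact case_two (σ := Q.σ) (v := Q.v) (τ := Q.τ) (i := Q.l * Q.l + 2 * Q.B) h1 Q.h₁' h2 h3 Q.hc
      Q.hv hN hu hκn (hσ.trans hκn.symm) Q.hσ hp0 hq0 (by linarith) hg1 (by linarith) hi2
      (by linarith) hMdef hMpos (by linear_combination hFS) hτ.2
  · have hκn : κ = 3 * Q.n₁ + 1 := by rw [hκ, hk, one_mul, hσ]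
    rw [hk, hc] at hM
    rw [hd, hk, hc] at hd3
    exact case_three (n₁ := Q.n₁) h2 Q.h₂' h3 Q.h₃' hN hu (by linarith) (by rw [hMdef, hκn]) hMpos (by linarith)

end DegData

/-- The pairs inequality rules out the first subgroup meeting an exceptional family. -/
theorem pairs_absurd {n₂ n₃ c d x : ℤ} (h₂ : 9 ≤ n₂) (h₂' : n₂ % 4 = 1) (h₃ : 9 ≤ n₃) (h₃' : n₃ % 4 = 1)
    (h23 : n₂ ≠ n₃) (hne : ¬ (n₂ = 9 ∧ n₃ = 9))
    (hc : c = 1 ∨ c = -1) (hd : 0 < d) (hd₂ : n₂ ∣ d) (hd₅ : (5 : ℤ) ∣ d - c)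
    (hx : n₂ * |x| ≤ d) (hp : (n₂ + n₃ + 6) * ((d - x) * (d - x)) ≤ 20 * (d * (d + c))) : False := by
  obtain ⟨δ, hδ⟩ := hd₂
  have hδ1 : 1 ≤ δ := by
    by_contra h
    push Not at h
    nlinarith
  have hx1 := le_abs_self x
  have h4 : (n₂ - 1) * d ≤ n₂ * (d - x) := by nlinarith
  have h5 : ((n₂ - 1) * d) * ((n₂ - 1) * d) ≤ (n₂ * (d - x)) * (n₂ * (d - x)) :=
    mul_le_mul h4 h4 (by nlinarith) (by nlinarith)
  have h6 : ((n₂ + n₃ + 6) * ((n₂ - 1) * (n₂ - 1))) * d ≤ (20 * (n₂ * n₂)) * (d + c) := by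
    have h7 : (n₂ + n₃ + 6) * (((n₂ - 1) * d) * ((n₂ - 1) * d)) ≤
        (n₂ + n₃ + 6) * ((n₂ * (d - x)) * (n₂ * (d - x))) := mul_le_mul_of_nonneg_left h5 (by linarith)
    have h8 : (n₂ + n₃ + 6) * ((n₂ * (d - x)) * (n₂ * (d - x))) ≤ (n₂ * n₂) * (20 * (d * (d + c))) := by
      have := mul_le_mul_of_nonneg_left hp (show (0:ℤ) ≤ n₂ * n₂ by positivity)
      linarith
    refine le_of_mul_le_mul_right ?_ hd
    linarith
  have h22 : 22 ≤ n₂ + n₃ := by omega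
  rcases (show n₂ = 9 ∨ 13 ≤ n₂ by omega) with h9 | h13
  · rw [h9] at h6 hδ
    rcases hc with hc | hc
    · rw [hc] at h6 hd₅
      obtain ⟨e, he⟩ := hd₅
      have : 2 ≤ δ := by omega
      nlinarith
    · rw [hc] at h6
      nlinarith
  · have h9 : 28 * ((n₂ - 1) * (n₂ - 1)) * d ≤ (n₂ + n₃ + 6) * ((n₂ - 1) * (n₂ - 1)) * d :=
      mul_le_mul_of_nonneg_right (mul_le_mul_of_nonneg_right (by linarith) (mul_self_nonneg _)) hd.le
    have h10 : d + c ≤ d + 1 := by rcases hc with h | h <;> omega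
    have h11 : 13 ≤ d := by
      rw [hδ]; linarith [mul_le_mul h13 hδ1 (by norm_num) (by linarith : (0:ℤ) ≤ n₂)]
    have h12 : 20 * (n₂ * n₂) * (d + c) ≤ 20 * (n₂ * n₂) * (d + 1) :=
      mul_le_mul_of_nonneg_left h10 (mul_nonneg (by norm_num) (mul_self_nonneg _))
    have h14 : 13 * n₂ ≤ n₂ * n₂ := mul_le_mul_of_nonneg_right h13 (by linarith)
    have h15 : 0 ≤ 8 * (n₂ * n₂) - 56 * n₂ + 28 := by linarith
    have h16 : (8 * (n₂ * n₂) - 56 * n₂ + 28) * 13 ≤ (8 * (n₂ * n₂) - 56 * n₂ + 28) * d :=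
      mul_le_mul_of_nonneg_left h11 h15
    linarith

end Cfsg.Lib.SuzSystem
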