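import Cfsg.Agent.SuzSystem.Pairs
import Cfsg.Agent.SuzSystem.Arith

/-!
# Two self-centralising subgroups that are not conjugate
-/

set_option autoImplicit false
set_option linter.unusedSectionVars false
set_option linter.style.haveILetI false

namespace Cfsg.Lib.SuzSystem

open scoped ComplexConjugate
open Cfsg.Lib.Chars Subgroup

universe u

variable {G : Type u} [Group G] [Fintype G] {A B : Subgroup G} {e e' : ℕ}

/-- No conjugate of `A` is `B`. -/
def NotConj (A B : Subgroup G) : Prop := ∀ x : G, A.map (MulAut.conj x).toMonoidHom ≠ B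

theorem NotConj.symm (h : NotConj A B) : NotConj B A := by
  intro x hx
  refine h x⁻¹ ?_
  rw [← hx, Subgroup.map_map]
  convert Subgroup.map_id B
  ext g
  simp only [MonoidHom.coe_comp, MulEquiv.coe_toMonoidHom, Function.comp_apply, MulAut.conj_apply,
    MonoidHom.id_apply]
  group

theorem Sys.supp_disjoint (S : Sys A e) (T : Sys B e') (h : NotConj A B) :
    Disjoint (Sys.supp A) (Sys.supp B) := by
  refine Finset.disjoint_left.2 fun g hA hB => ?_
  obtain ⟨h1, x, hx⟩ := Sys.mem_supp.1 hA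
  obtain ⟨-, y, hy⟩ := Sys.mem_supp.1 hB
  refine h (y⁻¹ * x) (S.map_conj_eq T hx (fun e' => h1 ?_) ?_)
  · calc g = x * (x⁻¹ * g * x) * x⁻¹ := by group
      _ = 1 := by rw [e']; group
  · rw [show y⁻¹ * x * (x⁻¹ * g * x) * (y⁻¹ * x)⁻¹ = y⁻¹ * g * y by group]
    exact hy

theorem Sys.not_commute_invol (S : Sys A e) {g w : G} (hg : g ∈ Sys.supp A) (hw : orderOf w = 2) :
    g * w ≠ w * g := by
  intro hc
  obtain ⟨h1, x, hx⟩ := Sys.mem_supp.1 hg
  have hne : x⁻¹ * g * x ≠ 1 := fun e' => h1 (by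
    calc g = x * (x⁻¹ * g * x) * x⁻¹ := by group
      _ = 1 := by rw [e']; group)
  have hwA : x⁻¹ * w * x ∈ A := S.mem_of_commute hx hne (by
    calc x⁻¹ * w * x * (x⁻¹ * g * x) = x⁻¹ * (w * g) * x := by group
      _ = x⁻¹ * (g * w) * x := by rw [hc]
      _ = _ := by group)
  have h2 : orderOf (⟨x⁻¹ * w * x, hwA⟩ : A) = 2 := by
    rw [← Subgroup.orderOf_coe]
    show orderOf (x⁻¹ * w * x) = 2
    rw [show x⁻¹ * w * x = MulAut.conj x⁻¹ w by simp, (MulAut.conj x⁻¹).orderOf_eq, hw]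
  have := orderOf_dvd_natCard (⟨x⁻¹ * w * x, hwA⟩ : A)
  rw [h2] at this
  exact S.odd.not_two_dvd_nat this

theorem Sys.coprime_centralizer (S : Sys A e) {w : G} (hw : orderOf w = 2) :
    (Nat.card A).Coprime (Nat.card (centralizer ({w} : Set G))) := by
  refine Nat.coprime_of_dvd fun p hp hA hC => ?_
  haveI : Fact p.Prime := ⟨hp⟩
  obtain ⟨g, hg⟩ := exists_prime_orderOf_dvd_card' p hC
  have hgo : orderOf (g : G) = p := by rw [Subgroup.orderOf_coe, hg]
  have hpg : IsPGroup p (zpowers (g : G)) := by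
    refine IsPGroup.of_card (n := 1) ?_
    rw [Nat.card_zpowers, hgo, pow_one]
  obtain ⟨Q, hQ⟩ := hpg.exists_le_sylow
  obtain ⟨x, hx⟩ := S.pgroup_conj hp hA Q
  refine S.not_commute_invol (Sys.mem_supp.2 ⟨fun h => ?_, x⁻¹, ?_⟩) hw
    (mem_centralizer_singleton_iff.1 g.2)
  · rw [h, orderOf_one] at hgo; exact hp.one_lt.ne hgo
  · rw [inv_inv]; exact hx _ (hQ (mem_zpowers _))

namespace Fam

variable (S : Sys A e) (T : Sys B e') (hne : NotConj A B) (F : Fam A e) (F' : Fam B e')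
include S T hne

theorem disjoint {χ : Cfsg.IrrCharacter G} (h : χ ∈ F.X) : χ ∉ F'.X := by
  intro h'
  have hd := S.supp_disjoint T hne
  obtain ⟨μ, hμ, hμne⟩ := Finset.exists_mem_ne (show 1 < F.X.card by have := F.two; omega) χ
  have hag : ∀ b ∈ B, b ≠ 1 → (μ : G → ℂ) b = (χ : G → ℂ) b := fun b hb hb1 =>
    F.agree μ hμ χ h b fun hh => Finset.disjoint_left.1 hd hh (T.mem_supp_self hb hb1)
  have hμ' : μ ∈ F'.X := by
    by_contra hμ'
    obtain ⟨b, hb, hb1, hbne⟩ := F'.vary χ h' (F'.cv μ : ℂ)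
    exact hbne (by rw [← hag b hb hb1, F'.const μ hμ' b hb hb1])
  obtain ⟨b, hb, hb1, hbne⟩ := F'.sep μ hμ' χ h' hμne
  exact hbne (hag b hb hb1)

theorem cv_eq {χ χ' : Cfsg.IrrCharacter G} (h : χ ∈ F'.X) (h' : χ' ∈ F'.X) : F.cv χ = F.cv χ' := by
  obtain ⟨a, ha, ha1⟩ := S.exists_ne
  have hd := S.supp_disjoint T hne
  have h1 := F.const χ (fun hh => Fam.disjoint S T hne F F' hh h) a ha ha1
  have h2 := F.const χ' (fun hh => Fam.disjoint S T hne F F' hh h') a ha ha1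
  rw [F'.agree χ h χ' h' a (Finset.disjoint_left.1 hd (S.mem_supp_self ha ha1))] at h1
  exact_mod_cast h1.symm.trans h2

theorem cross {μ μ' : Cfsg.IrrCharacter G} (hμ : μ ∈ F.X) (hμ' : μ' ∈ F'.X) :
    ∑ χ : Cfsg.IrrCharacter G, F.cv χ * F'.cv χ + F.cv μ' * F'.s + F'.cv μ * F.s = 0 := by
  classical
  obtain ⟨a, ha, ha1⟩ := S.exists_ne
  obtain ⟨b, hb, hb1⟩ := T.exists_ne
  have hd := S.supp_disjoint T hne
  have hbA : b ∉ Sys.supp A := fun h => Finset.disjoint_left.1 hd h (T.mem_supp_self hb hb1)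
  have hμF' : μ ∉ F'.X := Fam.disjoint S T hne F F' hμ
  have h1 := F.split (fun χ => conj ((χ : G → ℂ) b)) (F'.cv μ : ℂ) (fun χ hχ => by
    rw [F.agree χ hχ μ hμ b hbA, F'.const μ hμF' b hb hb1, map_intCast]) ha ha1
  have h2 := F'.split_conj (fun χ => (F.cv χ : ℂ)) (F.cv μ' : ℂ)
    (fun χ hχ => by rw [Fam.cv_eq S T hne F F' hχ hμ']) hb hb1
  have h3 := second_orthogonality a b
  rw [if_neg, Finset.sum_congr rfl fun χ _ => mul_comm _ _, h1,
    Finset.sum_congr rfl fun χ _ => mul_comm _ _, h2] at h3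
  · exact_mod_cast h3
  · intro h
    obtain ⟨x, hx⟩ := isConj_iff.1 h
    exact hne x (S.map_conj_eq T ha ha1 (hx ▸ hb))

end Fam

theorem Fam.nu_relation {A : Subgroup G} {e : ℕ} (S : Sys A e) (F : Fam A e) (ν : Cfsg.IrrCharacter G → ℤ)
    (h3 : ∀ χ : Cfsg.IrrCharacter G, ∑ s, (χ : G → ℂ) (s * s) = (Nat.card G : ℂ) * ν χ)
    (h4 : ∀ g : G, (Nat.card {y : G // y * y = g} : ℂ) = ∑ χ : Cfsg.IrrCharacter G, (ν χ : ℂ) * (χ : G → ℂ) g)
    {μ : Cfsg.IrrCharacter G} (hμ : μ ∈ F.X) :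
    ∑ χ : Cfsg.IrrCharacter G, ν χ * F.cv χ + ν μ * F.s = 1 := by
  classical
  obtain ⟨a, ha, ha1⟩ := S.exists_ne
  have h := h4 a
  rw [S.card_sqrt ha ha1, F.split (fun χ => (ν χ : ℂ)) (ν μ : ℂ)
    (fun χ hχ => by rw [Fam.nu_eq S F ν h3 hχ hμ]) ha ha1] at h
  exact_mod_cast h.symm

theorem nu_triv (ν : Cfsg.IrrCharacter G → ℤ)
    (h3 : ∀ χ : Cfsg.IrrCharacter G, ∑ s, (χ : G → ℂ) (s * s) = (Nat.card G : ℂ) * ν χ) :
    ν (triv G) = 1 := by
  have h := h3 (triv G)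
  simp only [triv_apply, Finset.sum_const, Finset.card_univ, nsmul_eq_mul, mul_one,
    ← Nat.card_eq_fintype_card] at h
  have h' : (Nat.card G : ℤ) = (Nat.card G : ℤ) * ν (triv G) := by exact_mod_cast h
  have := mul_left_cancel₀ (show (Nat.card G : ℤ) ≠ 0 by exact_mod_cast Nat.card_pos.ne')
    (h'.symm.trans (mul_one _).symm)
  exact this

end Cfsg.Lib.SuzSystem
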