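import Cfsg.Agent.SuzSystem.Others

/-!
# The degrees, and the absence of further characters
-/

set_option autoImplicit false
set_option linter.unusedSectionVars false
set_option linter.style.haveILetI false

namespace Cfsg.Lib.SuzSystem

open scoped ComplexConjugate
open Cfsg.Lib.Chars Subgroup

universe u

variable {G : Type u} [Group G] [Fintype G]

theorem dg_dvd (χ : Cfsg.IrrCharacter G) : dg χ ∣ (Nat.card G : ℤ) := by
  obtain ⟨n, ρ, hρ, he⟩ := χ.2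
  haveI := hρ
  rw [dg]
  refine Int.natCast_dvd_natCast.2 ?_
  rw [← he, deg_character]
  exact finrank_dvd_card ρ

theorem sum_dg_sq : ∑ χ : Cfsg.IrrCharacter G, dg χ * dg χ = (Nat.card G : ℤ) := by
  rw [← sum_deg_sq_nat (G := G)]
  push_cast
  exact Finset.sum_congr rfl fun χ _ => by rw [dg]; ring

/-- The two parts of the degree sum that the families do not see. -/
theorem split_rest (R : Finset (Cfsg.IrrCharacter G)) {W W' : Cfsg.IrrCharacter G} (hW : W ∈ R) (hW' : W' ∈ R)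
    (hne : W ≠ W') (f : Cfsg.IrrCharacter G → ℤ) :
    ∑ χ ∈ R, f χ = f W + f W' + ∑ χ ∈ R.filter (fun χ => χ ≠ W ∧ χ ≠ W'), f χ := by
  classical
  rw [← Finset.sum_filter_add_sum_filter_not R (fun χ => χ ≠ W ∧ χ ≠ W'),
    show R.filter (fun χ => ¬ (χ ≠ W ∧ χ ≠ W')) = {W, W'} from ?_, Finset.sum_pair hne]
  · ring
  · ext χ
    simp only [Finset.mem_filter, Finset.mem_insert, Finset.mem_singleton]
    constructor
    · rintro ⟨-, h⟩
      by_contra hh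
      push Not at hh
      exact h hh
    · rintro (rfl | rfl)
      · exact ⟨hW, fun h => h.1 rfl⟩
      · exact ⟨hW', fun h => h.2 rfl⟩

/-- Coprime factors. -/
theorem dvd_of_three {n₁ n₂ n₃ z : ℤ} (h12 : IsCoprime n₁ n₂) (h13 : IsCoprime n₁ n₃) (h23 : IsCoprime n₂ n₃)
    (a : n₁ ∣ z) (b : n₂ ∣ z) (c : n₃ ∣ z) : n₁ * (n₂ * n₃) ∣ z :=
  (h12.mul_right h13).mul_dvd a (h23.mul_dvd b c)

/-- What the degrees say about the order. -/
structure Summary (G : Type u) [Group G] [Fintype G] (A₁ A₂ A₃ : Subgroup G) where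
  w : G
  hw : orderOf w = 2
  one : ∀ y : G, orderOf y = 2 → IsConj w y
  Q : Num
  r₁ : ℕ
  r₂ : ℕ
  r₃ : ℕ
  hr₁ : 2 * r₁ + 1 = Nat.card A₁
  hr₂ : 4 * r₂ + 1 = Nat.card A₂
  hr₃ : 4 * r₃ + 1 = Nat.card A₃
  hn₁ : Q.n₁ = Nat.card A₁
  hn₂ : Q.n₂ = Nat.card A₂
  hn₃ : Q.n₃ = Nat.card A₃
  count : Fintype.card (Cfsg.IrrCharacter G) = r₁ + r₂ + r₃ + 4
  hcent : (Nat.card (centralizer ({w} : Set G)) : ℤ) = Q.σ * (Q.d - Q.x)
  hG : (Nat.card G : ℤ) = Q.n₁ * (Q.n₂ * Q.n₃) * (Nat.card (centralizer ({w} : Set G)) * Q.J)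

namespace Triple

variable {A₁ A₂ A₃ : Subgroup G}

set_option maxHeartbeats 2000000 in
theorem exists_summary [IsSimpleGroup G] (T : Triple A₁ A₂ A₃) : Nonempty (Summary G A₁ A₂ A₃) := by
  classical
  obtain ⟨h₂, h₂'⟩ := T.mod_two
  obtain ⟨h₃, h₃'⟩ := T.mod_three
  obtain ⟨F₁⟩ := T.S₁.exists_fam (by have := T.S₁.hn; omega)
  obtain ⟨F₂⟩ := T.S₂.exists_fam (by omega)
  obtain ⟨F₃⟩ := T.S₃.exists_fam (by omega)
  obtain ⟨χ₁, c, w, H⟩ := T.exists_first F₁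
  obtain ⟨hu, hv⟩ := H.meet T F₂ F₃
  obtain ⟨hu', hv'⟩ := H.meet T.swap F₃ F₂
  obtain ⟨W, W', O⟩ := T.exists_others F₂ F₃ H
  obtain ⟨ν, hν1, hν2, hν3, hν4⟩ := exists_nu (G := G)
  obtain ⟨μ₁, hμ₁⟩ := Finset.card_pos.1 F₁.card_pos
  obtain ⟨μ₂, hμ₂⟩ := Finset.card_pos.1 F₂.card_pos
  obtain ⟨μ₃, hμ₃⟩ := Finset.card_pos.1 F₃.card_pos
  have hc2 : c * c = 1 := by rcases H.hc with rfl | rfl <;> norm_num
  have hσσ : F₂.cv W * F₂.cv W = 1 := by rcases O.hσ with h | h <;> rw [h] <;> norm_num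
  have hσσ' : F₂.cv W' * F₂.cv W' = 1 := by rcases O.hσ' with h | h <;> rw [h] <;> norm_num
  set R := restSet F₁ F₂ F₃ χ₁ with hR
  set Big := R.filter (fun χ => χ ≠ W ∧ χ ≠ W') with hBig
  have hRX : ∀ χ ∈ R, χ ∉ F₁.X ∧ χ ∉ F₂.X ∧ χ ∉ F₃.X := fun χ hχ => by
    simp only [hR, restSet, Finset.mem_compl, Finset.mem_union, not_or] at hχ
    exact ⟨hχ.1.1.2, hχ.1.2, hχ.2⟩
  have hX₁2 := H.notX_of_zero T F₂
  have hX₁3 := H.notX_of_zero T.swap F₃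
  -- the orders
  set n₁ : ℤ := (Nat.card A₁ : ℤ) with hn₁
  set n₂ : ℤ := (Nat.card A₂ : ℤ) with hn₂
  set n₃ : ℤ := (Nat.card A₃ : ℤ) with hn₃
  have h₁ : 5 ≤ n₁ := by rw [hn₁]; exact_mod_cast T.S₁.hn
  have h₁' : Odd n₁ := by rw [hn₁]; exact_mod_cast T.S₁.odd
  have c12 : IsCoprime n₁ n₂ := Nat.Coprime.isCoprime (T.S₁.coprime T.S₂ T.n₁₂)
  have c13 : IsCoprime n₁ n₃ := Nat.Coprime.isCoprime (T.S₁.coprime T.S₃ T.n₁₃)
  have c23 : IsCoprime n₂ n₃ := Nat.Coprime.isCoprime (T.S₂.coprime T.S₃ T.n₂₃)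
  set m : ℤ := n₁ * (n₂ * n₃) with hm
  have hm0 : 0 < m := by rw [hm]; positivity
  obtain ⟨h, hGh⟩ : m ∣ (Nat.card G : ℤ) :=
    dvd_of_three c12 c13 c23 (Int.natCast_dvd_natCast.2 (card_subgroup_dvd_card A₁))
      (Int.natCast_dvd_natCast.2 (card_subgroup_dvd_card A₂))
      (Int.natCast_dvd_natCast.2 (card_subgroup_dvd_card A₃))
  have hG0 : (0 : ℤ) < Nat.card G := by exact_mod_cast Nat.card_pos
  have hh0 : 0 < h := pos_of_mul_pos_right (by rw [← hGh]; exact hG0) hm0.le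
  have hcop : ∀ {A : Subgroup G} {e : ℕ} (_ : Sys A e) (t : ℤ), m * h = (Nat.card A : ℤ) * (t * h) → 0 < t →
      IsCoprime (Nat.card A : ℤ) h := by
    intro A e S t ht ht0
    have hcard : Nat.card G = Nat.card A * (t * h).toNat := by
      have : (Nat.card G : ℤ) = ((Nat.card A * (t * h).toNat : ℕ) : ℤ) := by
        rw [Nat.cast_mul, Int.toNat_of_nonneg (mul_pos ht0 hh0).le, hGh, ht]
      exact_mod_cast this
    have := Nat.Coprime.isCoprime (S.card_dvd_coprime hcard)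
    rw [Int.toNat_of_nonneg (mul_pos ht0 hh0).le] at this
    exact this.of_mul_right_right
  have c1h : IsCoprime n₁ h := hcop T.S₁ (n₂ * n₃) (by rw [hm]; ring) (by positivity)
  have c2h : IsCoprime n₂ h := hcop T.S₂ (n₁ * n₃) (by rw [hm]; ring) (by positivity)
  have c3h : IsCoprime n₃ h := hcop T.S₃ (n₁ * n₂) (by rw [hm]; ring) (by positivity)
  -- congruences of degrees
  set d := dg χ₁ with hd
  have hd1 : n₁ ∣ d - c := by have := F₁.congr χ₁ H.notX; rwa [H.cv] at this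
  have hd2 : n₂ ∣ d + c := by
    have := F₂.congr χ₁ hX₁2
    rw [hu, sub_neg_eq_add] at this; exact this
  have hd3 : n₃ ∣ d + c := by
    have := F₃.congr χ₁ hX₁3
    rw [hu', sub_neg_eq_add] at this; exact this
  set f₁ := dg μ₁ with hf₁
  have hf₁s : f₁ * F₁.s = -(1 + c * d) := H.deg_family T hμ₁
  have hdpos := dg_pos χ₁
  have hf₁eq : f₁ = d + c := by
    have h1 := dg_pos μ₁
    rcases H.hc with h' | h' <;> rcases H.hs with h'' | h'' <;> rw [h', h''] at hf₁s <;> rw [h'] <;>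
      simp only [hd, hf₁] at * <;> omega
  obtain ⟨k, hk⟩ : n₂ * n₃ ∣ d + c := c23.mul_dvd hd2 hd3
  have hN : 81 ≤ n₂ * n₃ := le_trans (by norm_num) (mul_le_mul h₂ h₃ (by norm_num) (by omega))
  have hk1 : 1 ≤ k := by
    have h1 := dg_pos μ₁
    have : 0 < n₂ * n₃ * k := by rw [← hk, ← hf₁eq]; omega
    have := pos_of_mul_pos_right this (by omega)
    omega
  have hkN : d + c = k * (n₂ * n₃) := by rw [hk]; ring
  have hd80 : 80 ≤ d := by
    have : n₂ * n₃ ≤ k * (n₂ * n₃) := le_mul_of_one_le_left (by omega) hk1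
    rcases H.hc with h' | h' <;> rw [h'] at hkN <;> omega
  -- the value at an involution
  have hwo := H.order T
  obtain ⟨x, hxw, hx1⟩ := H.inv.xbound T.S₁ F₁ H.notX
  rw [H.cv] at hx1
  obtain ⟨w₂, W₂⟩ := T.S₂.exists_inv
  have hxw2 : n₂ * |x| ≤ d - (n₂ - 1) * c := by
    obtain ⟨x', hx', hb⟩ := W₂.xbound T.S₂ F₂ hX₁2
    have hcj : (χ₁ : G → ℂ) w = (χ₁ : G → ℂ) w₂ := classFunction_eq_of_isConj (isClassFunction_irr χ₁)
      (H.one w₂ (by simpa using W₂.order T.S₂ (one_mem A₂)))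
    rw [hxw, hx'] at hcj
    have hxx : x = x' := by exact_mod_cast hcj
    rw [hu] at hb
    rw [hxx]
    linarith
  have hxd : 0 < d - x := by
    by_contra hle
    push Not at hle
    have hxd' : d ≤ |x| := le_trans (by omega) (le_abs_self x)
    have h5 : n₁ * d ≤ n₁ * |x| := mul_le_mul_of_nonneg_left hxd' (by omega)
    have h6 : (n₁ - 1) * 80 ≤ (n₁ - 1) * d := mul_le_mul_of_nonneg_left hd80 (by omega)
    rcases H.hc with h' | h' <;> rw [h'] at hx1 <;> linarith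
  -- the centraliser
  set Cw := (Nat.card (centralizer ({w} : Set G)) : ℤ) with hCw
  have hIC : ((invols G).card : ℤ) * Cw = (Nat.card G : ℤ) := by
    rw [← H.card_class T, hCw]; exact_mod_cast card_isConj_mul w
  have hpairs := H.pairs T hxw
  have hcm : IsCoprime m Cw :=
    IsCoprime.mul_left (Nat.Coprime.isCoprime (T.S₁.coprime_centralizer hwo))
      (IsCoprime.mul_left (Nat.Coprime.isCoprime (T.S₂.coprime_centralizer hwo))
        (Nat.Coprime.isCoprime (T.S₃.coprime_centralizer hwo)))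
  have hC0 : 0 < Cw := by rw [hCw]; exact_mod_cast Nat.card_pos
  obtain ⟨J, hJ⟩ : Cw ∣ h := by
    refine hcm.symm.dvd_of_dvd_mul_left ?_
    rw [← hGh, ← hIC]
    exact dvd_mul_left _ _
  have hIJ : ((invols G).card : ℤ) = m * J := by
    refine mul_right_cancel₀ hC0.ne' ?_
    rw [hIC, hGh, hJ]; ring
  have hJ0 : 0 < J := pos_of_mul_pos_right (by rw [← hJ]; exact hh0) hC0.le
  have hkey : Cw * Cw * (d * k) = h * ((d - x) * (d - x)) := by
    have h1 : n₁ * Nat.card G * d * (d + c) * (Cw * Cw) =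
        (((invols G).card : ℤ) * Cw) ^ 2 * (d - x) ^ 2 := by rw [hpairs]; ring
    rw [hIC, hGh, hkN] at h1
    refine mul_left_cancel₀ (show m * (m * h) ≠ 0 by positivity) ?_
    linear_combination h1 - (m * h * d * k * (Cw * Cw)) * hm
  have hdh : d ∣ h := by
    refine IsCoprime.dvd_of_dvd_mul_left ?_ (hGh ▸ dg_dvd χ₁)
    obtain ⟨t, ht⟩ := hd1
    have e1 : IsCoprime d n₁ := ⟨c, -(c * t), by linear_combination hc2 + c * ht⟩
    have e23 : IsCoprime d (n₂ * n₃) := ⟨-c, c * k, by linear_combination -c * hkN + hc2⟩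
    exact e1.mul_right e23
  have hk1c : IsCoprime k n₁ := by
    obtain ⟨t, ht⟩ := hd1
    obtain ⟨u, v, huv⟩ : IsCoprime (2 * c) n₁ := by
      obtain ⟨b, hb⟩ := h₁'
      exact ⟨-(c * b), 1, by linear_combination hb - 2 * b * hc2⟩
    exact ⟨u * (n₂ * n₃), v - u * t, by linear_combination huv - u * hkN + u * ht⟩
  have hkh : k ∣ h := by
    refine hk1c.dvd_of_dvd_mul_left ?_
    have h1 : f₁ ∣ m * h := hGh ▸ dg_dvd μ₁
    rw [hf₁eq, hkN, hm, show n₁ * (n₂ * n₃) * h = n₁ * h * (n₂ * n₃) by ring] at h1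
    exact (mul_dvd_mul_iff_right (show n₂ * n₃ ≠ 0 by omega)).1 h1
  have hcdk : IsCoprime d k := ⟨-c, c * (n₂ * n₃), by linear_combination -c * hkN + hc2⟩
  obtain ⟨s', hs'⟩ := hcdk.mul_dvd hdh hkh
  have hC2 : Cw * Cw = s' * ((d - x) * (d - x)) := by
    refine mul_right_cancel₀ (show d * k ≠ 0 by positivity) ?_
    rw [hkey, hs']; ring
  obtain ⟨σ, hσ⟩ : (d - x) ∣ Cw :=
    (Int.pow_dvd_pow_iff two_ne_zero).1 ⟨s', by rw [pow_two, pow_two, hC2]; ring⟩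
  have hσ1 : 1 ≤ σ := by
    have := pos_of_mul_pos_right (hσ ▸ hC0) hxd.le
    omega
  have hsσ : s' = σ * σ := by
    refine mul_right_cancel₀ (show (d - x) * (d - x) ≠ 0 by positivity) ?_
    rw [← hC2, hσ]; ring
  have hhκ : h = k * σ * σ * d := by rw [hs', hsσ]; ring
  have hbound : h ≤ 3 * m := by
    refine le_of_mul_le_mul_left ?_ hm0
    rw [← hGh, hm]
    have : (Nat.card G : ℤ) ≤ 3 * n₁ ^ 2 * n₂ ^ 2 * n₃ ^ 2 := by
      rw [hn₁, hn₂, hn₃]; exact_mod_cast T.bound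
    linarith
  -- congruences of the order
  obtain ⟨K₁, hK₁, hK₁'⟩ := T.S₁.card_congr
  obtain ⟨K₂, hK₂, hK₂'⟩ := T.S₂.card_congr
  obtain ⟨K₃, hK₃, hK₃'⟩ := T.S₃.card_congr
  have hK₁e : n₂ * n₃ * h = 2 * (K₁ : ℤ) := by
    refine mul_left_cancel₀ (show n₁ ≠ 0 by omega) ?_
    have : (Nat.card G : ℤ) = n₁ * 2 * K₁ := by rw [hn₁]; exact_mod_cast hK₁
    linear_combination -hGh + this - h * hm
  have hK₂e : n₁ * n₃ * h = 4 * (K₂ : ℤ) := by
    refine mul_left_cancel₀ (show n₂ ≠ 0 by omega) ?_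
    have : (Nat.card G : ℤ) = n₂ * 4 * K₂ := by rw [hn₂]; exact_mod_cast hK₂
    linear_combination -hGh + this - h * hm
  have hK₃e : n₁ * n₂ * h = 4 * (K₃ : ℤ) := by
    refine mul_left_cancel₀ (show n₃ ≠ 0 by omega) ?_
    have : (Nat.card G : ℤ) = n₃ * 4 * K₃ := by rw [hn₃]; exact_mod_cast hK₃
    linear_combination -hGh + this - h * hm
  have hσ₁ : n₁ ∣ σ * σ - 1 := by
    obtain ⟨t, ht⟩ := hd1
    obtain ⟨q, hq⟩ := hK₁'
    have h2 : n₁ ∣ 2 * (σ * σ - 1) := by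
      refine ⟨2 * q - σ * σ * t * (3 * c + n₁ * t), ?_⟩
      rw [hhκ] at hK₁e
      linear_combination hK₁e + (σ * σ * d) * hkN - (σ * σ * (d + c + c + n₁ * t + c)) * ht + 2 * hq -
        (2 * σ * σ) * hc2 + (σ * σ * c) * ht
    obtain ⟨b, hb⟩ := h₁'
    exact IsCoprime.dvd_of_dvd_mul_left (⟨1, -b, by linear_combination hb⟩ : IsCoprime n₁ 2) h2
  -- the degree sums
  have hS2 : ∀ (F : Cfsg.IrrCharacter G → ℤ), ∑ χ ∈ R, F χ = F W + F W' + ∑ χ ∈ Big, F χ :=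
    split_rest R O.hW O.hW' O.hne
  have hcvBig : ∀ χ ∈ Big, F₁.cv χ = 0 ∧ F₂.cv χ = 0 ∧ F₃.cv χ = 0 := fun χ hχ => by
    obtain ⟨h1, h2, h3⟩ := Finset.mem_filter.1 hχ
    have := O.zero₂ χ h1 h2 h3
    exact ⟨O.zero₁ χ h1, this, by rw [O.anti χ h1, this, neg_zero]⟩
  have hBigdvd : ∀ χ ∈ Big, m ∣ dg χ := fun χ hχ => by
    obtain ⟨z1, z2, z3⟩ := hcvBig χ hχ
    obtain ⟨x1, x2, x3⟩ := hRX χ (Finset.mem_filter.1 hχ).1
    refine dvd_of_three c12 c13 c23 ?_ ?_ ?_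
    · have h := F₁.congr χ x1; rwa [z1, sub_zero] at h
    · have h := F₂.congr χ x2; rwa [z2, sub_zero] at h
    · have h := F₃.congr χ x3; rwa [z3, sub_zero] at h
  obtain ⟨hW1X, hW2X, hW3X⟩ := hRX W O.hW
  obtain ⟨hW1X', hW2X', hW3X'⟩ := hRX W' O.hW'
  set D := dg W with hD
  set D' := dg W' with hD'
  set σW := F₂.cv W with hσW
  set σW' := F₂.cv W' with hσW'
  set S := σW * D + σW' * D' with hS
  set f₂ := dg μ₂ with hf₂
  set f₃ := dg μ₃ with hf₃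
  have hdeg2 : 1 - c * d + S + f₂ * F₂.s = 0 := by
    have h1 := F₂.deg_relation T.S₂ hμ₂
    rw [T.decomp F₂ F₃ H (fun χ => dg χ * F₂.cv χ) 0 0 0
      (fun χ h => by simp only [hv χ h, mul_zero]) (fun χ h => by simp only [F₂.zero χ h, mul_zero])
      (fun χ h => by simp only [O.p₂ χ h, mul_zero]), hS2,
      Finset.sum_eq_zero (s := Big) (fun χ hχ => by rw [(hcvBig χ hχ).2.1, mul_zero]),
      dg_triv, F₂.cv_triv, hu] at h1
    linarith
  have hdeg3 : 1 - c * d - S + f₃ * F₃.s = 0 := by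
    have h1 := F₃.deg_relation T.S₃ hμ₃
    rw [T.decomp F₂ F₃ H (fun χ => dg χ * F₃.cv χ) 0 0 0
      (fun χ h => by simp only [hv' χ h, mul_zero]) (fun χ h => by simp only [O.p₃ χ h, mul_zero])
      (fun χ h => by simp only [F₃.zero χ h, mul_zero]), hS2,
      Finset.sum_eq_zero (s := Big) (fun χ hχ => by rw [(hcvBig χ hχ).2.2, mul_zero]),
      dg_triv, F₃.cv_triv, hu', O.anti W O.hW, O.anti W' O.hW'] at h1
    linarith
  set P₂ := 1 - c * d + S with hP₂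
  set P₃ := 1 - c * d - S with hP₃
  have hs22 : F₂.s * F₂.s = 1 := by rcases O.s₂ with h' | h' <;> rw [h'] <;> norm_num
  have hs33 : F₃.s * F₃.s = 1 := by rcases O.s₃ with h' | h' <;> rw [h'] <;> norm_num
  have hμ₂1 := fun h => Fam.disjoint T.S₁ T.S₂ T.n₁₂ F₁ F₂ h hμ₂
  have hμ₃1 := fun h => Fam.disjoint T.S₁ T.S₃ T.n₁₃ F₁ F₃ h hμ₃
  have hμ₂3 : μ₂ ∉ F₃.X := fun h => Fam.disjoint T.S₃ T.S₂ T.n₂₃.symm F₃ F₂ h hμ₂
  have hμ₃2 : μ₃ ∉ F₂.X := fun h => Fam.disjoint T.S₂ T.S₃ T.n₂₃ F₂ F₃ h hμ₃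
  have hzero₁ : ∀ χ, χ ∈ F₂.X ∨ χ ∈ F₃.X → F₁.cv χ = 0 := fun χ hχ => by
    refine H.zero χ (fun e => ?_) (fun e => ?_)
    · rcases hχ with h | h <;> rw [e] at h
      · exact F₂.triv_not_mem h
      · exact F₃.triv_not_mem h
    · rcases hχ with h | h <;> rw [e] at h
      · exact hX₁2 h
      · exact hX₁3 h
  obtain ⟨a₀, ha₀⟩ : n₁ * n₃ ∣ P₂ := by
    have h1 : n₁ * n₃ ∣ f₂ := by
      refine c13.mul_dvd ?_ ?_
      · have h := F₁.congr μ₂ hμ₂1; rwa [hzero₁ μ₂ (Or.inl hμ₂), sub_zero] at h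
      · have h := F₃.congr μ₂ hμ₂3; rwa [O.p₃ μ₂ hμ₂, sub_zero] at h
    rw [show P₂ = f₂ * (-F₂.s) by linear_combination hdeg2]
    exact h1.mul_right _
  obtain ⟨b₀, hb₀⟩ : n₁ * n₂ ∣ P₃ := by
    have h1 : n₁ * n₂ ∣ f₃ := by
      refine c12.mul_dvd ?_ ?_
      · have h := F₁.congr μ₃ hμ₃1; rwa [hzero₁ μ₃ (Or.inr hμ₃), sub_zero] at h
      · have h := F₂.congr μ₃ hμ₃2; rwa [O.p₂ μ₃ hμ₃, sub_zero] at h
    rw [show P₃ = f₃ * (-F₃.s) by linear_combination hdeg3]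
    exact h1.mul_right _
  set a := -c * a₀ with ha
  set b := -c * b₀ with hb
  have hdW : n₂ ∣ σW * D - 1 ∧ n₂ ∣ σW' * D' - 1 ∧ n₃ ∣ σW * D + 1 ∧ n₃ ∣ σW' * D' + 1 := by
    have e1 := (F₂.congr W hW2X).mul_left σW
    have e2 := (F₂.congr W' hW2X').mul_left σW'
    have e3 := (F₃.congr W hW3X).mul_left σW
    have e4 := (F₃.congr W' hW3X').mul_left σW'
    rw [O.anti W O.hW] at e3
    rw [O.anti W' O.hW'] at e4
    rw [mul_sub, ← hσW, hσσ] at e1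
    rw [mul_sub, ← hσW', hσσ'] at e2
    rw [mul_sub, ← hσW, mul_neg, hσσ, sub_neg_eq_add] at e3
    rw [mul_sub, ← hσW', mul_neg, hσσ', sub_neg_eq_add] at e4
    exact ⟨e1, e2, e3, e4⟩
  obtain ⟨⟨q1, hq1⟩, ⟨q2, hq2⟩, ⟨q3, hq3⟩, ⟨q4, hq4⟩⟩ := hdW
  have ha_dvd : n₂ ∣ a - k * σ * σ := by
    obtain ⟨t, ht⟩ := hd2
    obtain ⟨q, hq⟩ := hK₂'
    refine IsCoprime.dvd_of_dvd_mul_left (x := n₂) (c12.symm.mul_right c23) ?_
    -- multiply by the unit `-c`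
    have h1 : n₂ ∣ (-c) * (n₁ * n₃ * (a - k * σ * σ)) := by
      refine ⟨-c * t + q1 + q2 - n₁ * n₃ * k * σ * σ * (-t) - 4 * q, ?_⟩
      rw [hhκ] at hK₂e
      rw [ha]
      linear_combination (n₁ * n₃ * a₀) * hc2 - ha₀ + hP₂ + hS + hq1 + hq2 - c * ht + hc2
        - hK₂e + (n₁ * n₃ * k * σ * σ) * ht - 4 * hq
    have h2 := h1.mul_left (-c)
    rwa [← mul_assoc (-c) (-c), show (-c) * (-c) = 1 by linear_combination hc2, one_mul] at h2
  have hb_dvd : n₃ ∣ b - k * σ * σ := by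
    obtain ⟨t, ht⟩ := hd3
    obtain ⟨q, hq⟩ := hK₃'
    refine IsCoprime.dvd_of_dvd_mul_left (x := n₃) (c13.symm.mul_right c23.symm) ?_
    have h1 : n₃ ∣ (-c) * (n₁ * n₂ * (b - k * σ * σ)) := by
      refine ⟨-c * t - q3 - q4 - n₁ * n₂ * k * σ * σ * (-t) - 4 * q, ?_⟩
      rw [hhκ] at hK₃e
      rw [hb]
      linear_combination (n₁ * n₂ * b₀) * hc2 - hb₀ + hP₃ - hS - hq3 - hq4 - c * ht + hc2
        - hK₃e + (n₁ * n₂ * k * σ * σ) * ht - 4 * hq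
    have h2 := h1.mul_left (-c)
    rwa [← mul_assoc (-c) (-c), show (-c) * (-c) = 1 by linear_combination hc2, one_mul] at h2
  have hlin : n₁ * (a * n₃ + b * n₂) = 2 * k * (n₂ * n₃) - 4 * c := by
    rw [ha, hb]
    linear_combination c * ha₀ + c * hb₀ - c * hP₂ - c * hP₃ + 2 * hkN + 2 * d * hc2
  -- the two characters
  obtain ⟨l, hl⟩ : m ∣ σW * D - σW' * D' := by
    refine dvd_of_three c12 c13 c23 (dvd_sub ?_ ?_) ⟨q1 - q2, by linear_combination hq1 - hq2⟩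
      ⟨q3 - q4, by linear_combination hq3 - hq4⟩
    · exact dvd_mul_of_dvd_right (by have h := F₁.congr W hW1X; rwa [O.zero₁ W O.hW, sub_zero] at h) _
    · exact dvd_mul_of_dvd_right (by have h := F₁.congr W' hW1X'; rwa [O.zero₁ W' O.hW', sub_zero] at h) _
  -- the big characters
  have hbig : ∀ χ : Cfsg.IrrCharacter G, ∃ e, χ ∈ Big → dg χ = m * e := fun χ => by
    by_cases hχ : χ ∈ Big
    · obtain ⟨e, he⟩ := hBigdvd χ hχ; exact ⟨e, fun _ => he⟩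
    · exact ⟨0, fun h => absurd h hχ⟩
  choose e he using hbig
  set B := ∑ χ ∈ Big, e χ * e χ with hB
  have hsq : ∑ χ ∈ Big, dg χ * dg χ = m * m * B := by
    rw [hB, Finset.mul_sum]
    exact Finset.sum_congr rfl fun χ hχ => by rw [he χ hχ]; ring
  -- the order
  have hc1 := F₁.card
  have hcX1 : n₁ = 2 * (F₁.X.card : ℤ) + 1 := by rw [hn₁]; exact_mod_cast F₁.card.symm
  have hcX2 : n₂ = 4 * (F₂.X.card : ℤ) + 1 := by rw [hn₂]; exact_mod_cast F₂.card.symm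
  have hcX3 : n₃ = 4 * (F₃.X.card : ℤ) + 1 := by rw [hn₃]; exact_mod_cast F₃.card.symm
  have hord0 := sum_dg_sq (G := G)
  rw [T.decomp F₂ F₃ H (fun χ => dg χ * dg χ) (f₁ * f₁) (f₂ * f₂) (f₃ * f₃)
    (fun χ h => by rw [F₁.dg_eq T.S₁ h hμ₁]) (fun χ h => by rw [F₂.dg_eq T.S₂ h hμ₂])
    (fun χ h => by rw [F₃.dg_eq T.S₃ h hμ₃]), hS2, hsq, dg_triv, ← hd] at hord0
  have hf22 : f₂ * f₂ = P₂ * P₂ := by linear_combination (-(f₂ * f₂)) * hs22 + (f₂ * F₂.s - P₂) * hdeg2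
  have hf33 : f₃ * f₃ = P₃ * P₃ := by linear_combination (-(f₃ * f₃)) * hs33 + (f₃ * F₃.s - P₃) * hdeg3
  have haa : a * a = a₀ * a₀ := by rw [ha]; linear_combination (a₀ * a₀) * hc2
  have hbb : b * b = b₀ * b₀ := by rw [hb]; linear_combination (b₀ * b₀) * hc2
  have hN4 : 4 * (m * h) = 2 * n₁ * (d + c) ^ 2 + n₂ * P₂ ^ 2 + n₃ * P₃ ^ 2 + 2 * (m * m) * (l * l + 2 * B) := by
    rw [hf₁eq, hf22, hf33, hGh] at hord0
    have hDD : 2 * (D * D + D' * D') = S * S + (m * l) * (m * l) := by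
      rw [← hl, hS]
      linear_combination (-2 * (D * D)) * hσσ - (2 * (D' * D')) * hσσ'
    rw [hP₂, hP₃] at hord0 ⊢
    rw [hcX1, hcX2, hcX3]
    linear_combination -4 * hord0 + 2 * hDD + (-2 * d * d - 2) * hc2
  have hord : 4 * k * σ * σ * d = 2 * k * k * (n₂ * n₃) + n₁ * (a * a * n₃ + b * b * n₂) +
      2 * n₁ * (n₂ * n₃) * (l * l + 2 * B) := by
    rw [haa, hbb]
    refine mul_left_cancel₀ hm0.ne' ?_
    rw [hhκ, ha₀, hb₀, hkN] at hN4
    rw [hm] at hN4 ⊢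
    linear_combination hN4
  have hB0 : 0 ≤ B := Finset.sum_nonneg fun χ _ => mul_self_nonneg _
  have hi : l * l + 2 * B ≤ 5 := by
    by_contra hi
    push Not at hi
    have h1 : 0 < 2 * n₁ * (d + c) ^ 2 := by
      have : 0 < d + c := by rw [hkN]; positivity
      positivity
    have h2 : 0 ≤ n₂ * P₂ ^ 2 := mul_nonneg (by omega) (sq_nonneg _)
    have h3 : 0 ≤ n₃ * P₃ ^ 2 := mul_nonneg (by omega) (sq_nonneg _)
    have h4 : 2 * (m * m) * 6 ≤ 2 * (m * m) * (l * l + 2 * B) :=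
      mul_le_mul_of_nonneg_left hi (by positivity)
    have h5 : m * h ≤ m * (3 * m) := mul_le_mul_of_nonneg_left hbound hm0.le
    linarith
  -- the indicators
  set v := ν χ₁ with hvdef
  have hv1 : v = 1 ∨ v = -1 := by
    have := hν2 χ₁ H.real
    have hb := abs_le.1 (hν1 χ₁)
    omega
  have hnu1 := Fam.nu_relation T.S₁ F₁ ν hν3 hν4 hμ₁
  have hs1 := H.sum (fun χ => (ν χ : ℂ))
  have hs1' : ∑ χ : Cfsg.IrrCharacter G, ν χ * F₁.cv χ = ν (triv G) + ν χ₁ * c := by exact_mod_cast hs1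
  rw [hs1', nu_triv ν hν3] at hnu1
  have hnu2 := Fam.nu_relation T.S₂ F₂ ν hν3 hν4 hμ₂
  rw [T.decomp F₂ F₃ H (fun χ => ν χ * F₂.cv χ) 0 0 0
    (fun χ h => by simp only [hv χ h, mul_zero]) (fun χ h => by simp only [F₂.zero χ h, mul_zero])
    (fun χ h => by simp only [O.p₂ χ h, mul_zero]), hS2,
    Finset.sum_eq_zero (s := Big) (fun χ hχ => by rw [(hcvBig χ hχ).2.1, mul_zero]),
    nu_triv ν hν3, F₂.cv_triv, hu] at hnu2
  have hnu3 := Fam.nu_relation T.S₃ F₃ ν hν3 hν4 hμ₃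
  rw [T.decomp F₂ F₃ H (fun χ => ν χ * F₃.cv χ) 0 0 0
    (fun χ h => by simp only [hv' χ h, mul_zero]) (fun χ h => by simp only [O.p₃ χ h, mul_zero])
    (fun χ h => by simp only [F₃.zero χ h, mul_zero]), hS2,
    Finset.sum_eq_zero (s := Big) (fun χ hχ => by rw [(hcvBig χ hχ).2.2, mul_zero]),
    nu_triv ν hν3, F₃.cv_triv, hu', O.anti W O.hW, O.anti W' O.hW'] at hnu3
  rw [← hvdef] at hnu1 hnu2 hnu3
  have hboth : ν μ₂ * F₂.s = v * c ∧ ν μ₃ * F₃.s = v * c := by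
    have h1 : ν μ₂ * F₂.s + ν μ₃ * F₃.s = 2 * (v * c) := by linarith
    have b2 := abs_le.1 (hν1 μ₂)
    have b3 := abs_le.1 (hν1 μ₃)
    rcases hv1 with hv' | hv' <;> rcases H.hc with hc' | hc' <;> rcases O.s₂ with s2 | s2 <;>
      rcases O.s₃ with s3 | s3 <;> rw [hv', hc', s2, s3] at h1 ⊢ <;> omega
  have hs0 : ν W * σW + ν W' * σW' = 0 := by
    rw [← hσW, ← hσW'] at hnu2; linarith [hboth.1]
  set τ := ν W * σW * l + ∑ χ ∈ Big, ν χ * e χ with hτdef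
  have hτ : |τ| ≤ |l| + B := by
    refine (abs_add_le _ _).trans (add_le_add ?_ ?_)
    · rw [abs_mul, abs_mul]
      have h1 : |σW| = 1 := by rcases O.hσ with h' | h' <;> rw [hσW, h'] <;> norm_num
      rw [h1, mul_one]
      exact mul_le_of_le_one_left (abs_nonneg l) (hν1 W)
    · refine (Finset.abs_sum_le_sum_abs _ _).trans (Finset.sum_le_sum fun χ _ => ?_)
      rw [abs_mul, ← abs_mul_abs_self (e χ)]
      refine (mul_le_of_le_one_left (abs_nonneg _) (hν1 χ)).trans ?_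
      rcases eq_or_ne (e χ) 0 with h0 | h0
      · simp [h0]
      · exact le_mul_of_one_le_left (abs_nonneg _) (Int.one_le_abs h0)
  have hθ : ((invols G).card : ℤ) + 1 = ∑ χ : Cfsg.IrrCharacter G, ν χ * dg χ := by
    have h1 := hν4 1
    rw [card_sqrt_one] at h1
    simp only [apply_one] at h1
    exact_mod_cast h1
  rw [T.decomp F₂ F₃ H (fun χ => ν χ * dg χ) (ν μ₁ * f₁) (ν μ₂ * f₂) (ν μ₃ * f₃)
    (fun χ h => by rw [F₁.dg_eq T.S₁ h hμ₁, Fam.nu_eq T.S₁ F₁ ν hν3 h hμ₁])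
    (fun χ h => by rw [F₂.dg_eq T.S₂ h hμ₂, Fam.nu_eq T.S₂ F₂ ν hν3 h hμ₂])
    (fun χ h => by rw [F₃.dg_eq T.S₃ h hμ₃, Fam.nu_eq T.S₃ F₃ ν hν3 h hμ₃]),
    hS2, nu_triv ν hν3, dg_triv, ← hd, ← hvdef] at hθ
  have hFS : 4 * J = v * (2 * k + a + b) + 4 * τ := by
    have hs11 : F₁.s * F₁.s = 1 := by rcases H.hs with h' | h' <;> rw [h'] <;> norm_num
    have e1 : ν μ₁ * f₁ = v * (d + c) := by
      linear_combination (ν μ₁ * F₁.s) * hf₁s + (-(1 + c * d)) * hnu1 + (-(ν μ₁ * f₁)) * hs11 + (v * d) * hc2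
    have e2 : ν μ₂ * f₂ = v * (a * (n₁ * n₃)) := by
      rw [ha]
      linear_combination (-(ν μ₂ * f₂)) * hs22 + (ν μ₂ * F₂.s) * hdeg2 + (-P₂) * hboth.1 + (-(v * c)) * ha₀
    have e3 : ν μ₃ * f₃ = v * (b * (n₁ * n₂)) := by
      rw [hb]
      linear_combination (-(ν μ₃ * f₃)) * hs33 + (ν μ₃ * F₃.s) * hdeg3 + (-P₃) * hboth.2 + (-(v * c)) * hb₀
    have e4 : ν W * D + ν W' * D' + ∑ χ ∈ Big, ν χ * dg χ = m * τ := by
      have hsb : ∑ χ ∈ Big, ν χ * dg χ = m * ∑ χ ∈ Big, ν χ * e χ := by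
        rw [Finset.mul_sum]
        exact Finset.sum_congr rfl fun χ hχ => by rw [he χ hχ]; ring
      rw [hτdef, hsb]
      linear_combination (ν W * σW) * hl + (D' * σW') * hs0 + (-(ν W * D)) * hσσ + (-(ν W' * D')) * hσσ'
    rw [e1, e2, e3, e4, hIJ] at hθ
    refine mul_left_cancel₀ hm0.ne' ?_
    rw [hm] at hθ ⊢
    rw [hcX2, hcX3] at hkN
    rw [hcX1, hcX2, hcX3] at hθ hlin ⊢
    linear_combination 4 * hθ + (2 * v * (2 * (F₁.X.card : ℤ) + 2)) * hkN - v * hlin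
  have hCeven : Even (σ * (d - x)) := by
    rw [mul_comm, ← hσ, hCw, Int.even_coe_nat, even_iff_two_dvd]
    have h1 : orderOf (⟨w, mem_centralizer_singleton_iff.2 rfl⟩ : centralizer ({w} : Set G)) = 2 := by
      rw [← Subgroup.orderOf_coe]; exact hwo
    rw [← h1]
    exact orderOf_dvd_natCard _
  let Q : DegData :=
    { n₁ := n₁, n₂ := n₂, n₃ := n₃, c := c, k := k, d := d, σ := σ, x := x, J := J
      h₁ := h₁, h₁' := h₁', h₂ := h₂, h₂' := h₂', h₃ := h₃, h₃' := h₃', hc := H.hc, hk := hk1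
      hd := hkN, hd₁ := hd1, hσ := hσ1, hσ₁ := hσ₁
      hCJ := by rw [← hhκ, hJ, hσ]; ring
      hdx := hxd, hC := hCeven
      hbound := by rw [← hhκ]; rw [hm] at hbound; linarith
      hx₁ := hx1, hx₂ := hxw2
      a := a, b := b, l := l, B := B, τ := τ, v := v, ha := ha_dvd, hb := hb_dvd, hlin := hlin
      hord := hord, hB := hB0, hi := hi, hτ := hτ, hv := hv1, hFS := hFS }
  have hBzero : B = 0 := Q.B_eq_zero
  have hBigEmpty : Big = ∅ := by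
    rw [Finset.eq_empty_iff_forall_notMem]
    intro χ hχ
    have h1 := (Finset.sum_eq_zero_iff_of_nonneg fun χ _ => mul_self_nonneg (e χ)).1 hBzero χ hχ
    have h2 := he χ hχ
    rw [mul_self_eq_zero.1 h1, mul_zero] at h2
    have := dg_pos χ
    omega
  refine ⟨⟨w, hwo, H.one, Q.toNum, F₁.X.card, F₂.X.card, F₃.X.card, F₁.card, F₂.card, F₃.card, rfl, rfl,
    rfl, ?_, ?_, ?_⟩⟩
  · have h1 := T.decomp F₂ F₃ H (fun _ => (1 : ℤ)) 1 1 1 (fun _ _ => rfl) (fun _ _ => rfl) (fun _ _ => rfl)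
    rw [hS2 (fun _ => 1), hBigEmpty] at h1
    simp only [Finset.sum_const, Finset.card_univ, nsmul_eq_mul, mul_one, Finset.card_empty,
      Nat.cast_zero, add_zero] at h1
    have h2 : (Fintype.card (Cfsg.IrrCharacter G) : ℤ) =
        ((F₁.X.card + F₂.X.card + F₃.X.card + 4 : ℕ) : ℤ) := by push_cast; linarith
    exact_mod_cast h2
  · show Cw = σ * (d - x)
    rw [hσ]; ring
  · show (Nat.card G : ℤ) = n₁ * (n₂ * n₃) * (Cw * J)
    rw [hGh, hJ]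

end Triple

end Cfsg.Lib.SuzSystem
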