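import Cfsg.Agent.SuzSystem.Local
import Cfsg.Agent.Chars.Indicator
import Cfsg.Agent.Chars.Gallagher
import Cfsg.Agent.Chars.Values

/-!
# The exceptional family of a strongly self-centralising subgroup, and the indicators
-/

set_option autoImplicit false
set_option linter.unusedSectionVars false
set_option linter.style.haveILetI false

namespace Cfsg.Lib.SuzSystem

open scoped ComplexConjugate
open Cfsg.Lib.Chars

universe u

variable {G : Type u} [Group G] [Fintype G]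

/-- The degree of an irreducible character as an integer. -/
noncomputable def dg (χ : Cfsg.IrrCharacter G) : ℤ := (deg (χ : G → ℂ) : ℤ)

theorem apply_one (χ : Cfsg.IrrCharacter G) : (χ : G → ℂ) 1 = (dg χ : ℂ) := by
  rw [irr_apply_one_eq_deg, dg]; norm_cast

theorem dg_pos (χ : Cfsg.IrrCharacter G) : 1 ≤ dg χ := by
  have := deg_irr_pos χ
  simp only [dg]; omega

/-- The trivial character. -/
noncomputable def triv (G : Type u) [Group G] [Fintype G] : Cfsg.IrrCharacter G :=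
  ⟨fun _ => 1, by simpa using isIrrCharacter_linear (1 : G →* ℂˣ)⟩

theorem triv_apply (g : G) : (triv G : G → ℂ) g = 1 := rfl

theorem dg_triv : dg (triv G) = 1 := by
  have h := apply_one (triv G)
  rw [triv_apply] at h
  exact_mod_cast h.symm

/-- The indicator of Frobenius and Schur. -/
theorem exists_nu : ∃ ν : Cfsg.IrrCharacter G → ℤ, (∀ χ, |ν χ| ≤ 1) ∧
    (∀ χ : Cfsg.IrrCharacter G, (∀ g, ((χ : G → ℂ) g).im = 0) → ν χ ≠ 0) ∧
    (∀ χ : Cfsg.IrrCharacter G, ∑ s, (χ : G → ℂ) (s * s) = (Nat.card G : ℂ) * ν χ) ∧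
    (∀ g : G, (Nat.card {y : G // y * y = g} : ℂ) = ∑ χ : Cfsg.IrrCharacter G, (ν χ : ℂ) * (χ : G → ℂ) g) := by
  classical
  have hG : (Nat.card G : ℂ) ≠ 0 := by exact_mod_cast Nat.card_pos.ne'
  have h : ∀ χ : Cfsg.IrrCharacter G, ∃ z : ℤ, |z| ≤ 1 ∧ ((∀ g, ((χ : G → ℂ) g).im = 0) → z ≠ 0) ∧
      ∑ s, (χ : G → ℂ) (s * s) = (Nat.card G : ℂ) * z := by
    intro χ
    rcases indicator_irr χ.2 with ⟨⟨s, hs⟩, h⟩ | ⟨-, h | ⟨h, -⟩⟩
    · refine ⟨0, by simp, fun hr => absurd (hr s) hs, ?_⟩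
      rw [inv_mul_eq_iff_eq_mul₀ hG] at h
      simpa using h
    · refine ⟨1, by simp, fun _ => one_ne_zero, ?_⟩
      rw [inv_mul_eq_iff_eq_mul₀ hG] at h
      simpa using h
    · refine ⟨-1, by simp, fun _ => by norm_num, ?_⟩
      rw [inv_mul_eq_iff_eq_mul₀ hG] at h
      simpa using h
  choose ν h1 h2 h3 using h
  refine ⟨ν, h1, h2, h3, fun g => ?_⟩
  let θ : G → ℂ := fun g => Nat.card {y : G // y * y = g}
  have hθ : Cfsg.IsClassFunction G θ := fun g x => by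
    refine congrArg Nat.cast (Nat.card_congr ((MulAut.conj x⁻¹).toEquiv.subtypeEquiv fun y => ?_))
    simp only [MulEquiv.toEquiv_eq_coe, MulEquiv.coe_toEquiv, MulAut.conj_apply, inv_inv]
    constructor
    · intro e
      calc x⁻¹ * y * x * (x⁻¹ * y * x) = x⁻¹ * (y * y) * x := by group
        _ = g := by rw [e]; group
    · intro e
      calc y * y = x * (x⁻¹ * y * x * (x⁻¹ * y * x)) * x⁻¹ := by group
        _ = x * g * x⁻¹ := by rw [e]
  have hinner : ∀ χ : Cfsg.IrrCharacter G, Cfsg.classInner θ (χ : G → ℂ) = (ν χ : ℂ) := by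
    intro χ
    rw [classInner_def]
    have : ∑ g, θ g * conj ((χ : G → ℂ) g) = conj (∑ s, (χ : G → ℂ) (s * s)) := by
      rw [map_sum]
      conv_rhs => rw [← Finset.sum_fiberwise Finset.univ (fun s : G => s * s)]
      refine Finset.sum_congr rfl fun g _ => ?_
      rw [Finset.sum_congr rfl (g := fun _ => conj ((χ : G → ℂ) g)) fun s hs => by
        simp only [(Finset.mem_filter.mp hs).2]]
      rw [Finset.sum_const, nsmul_eq_mul, ← Fintype.card_subtype, ← Nat.card_eq_fintype_card]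
    rw [this, h3 χ, map_mul, Complex.conj_natCast, map_intCast, inv_mul_cancel_left₀ hG]
  have := classFunction_expand_apply hθ g
  simp only [hinner] at this
  exact this

/-- The exceptional family of `A`, with the constant values of the other characters. -/
structure Fam (A : Subgroup G) (e : ℕ) where
  X : Finset (Cfsg.IrrCharacter G)
  cv : Cfsg.IrrCharacter G → ℤ
  s : ℤ
  del : ℤ
  card : e * X.card + 1 = Nat.card A
  two : 2 ≤ X.card
  zero : ∀ χ ∈ X, cv χ = 0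
  const : ∀ χ, χ ∉ X → ∀ a ∈ A, a ≠ 1 → (χ : G → ℂ) a = cv χ
  vary : ∀ χ ∈ X, ∀ c : ℂ, ∃ a ∈ A, a ≠ 1 ∧ (χ : G → ℂ) a ≠ c
  agree : ∀ χ ∈ X, ∀ χ' ∈ X, ∀ g : G, g ∉ Sys.supp A → (χ : G → ℂ) g = (χ' : G → ℂ) g
  sep : ∀ χ ∈ X, ∀ χ' ∈ X, χ ≠ χ' → ∃ a ∈ A, a ≠ 1 ∧ (χ : G → ℂ) a ≠ (χ' : G → ℂ) a
  sum : ∀ a ∈ A, a ≠ 1 → ∑ χ ∈ X, (χ : G → ℂ) a = s
  budget : ∑ χ : Cfsg.IrrCharacter G, cv χ * cv χ + del = e
  del_nonneg : 0 ≤ del
  sq : s * s = X.card * del + 1
  congr : ∀ χ, χ ∉ X → (Nat.card A : ℤ) ∣ dg χ - cv χ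
  cv_triv : cv (triv G) = 1
  triv_not_mem : triv G ∉ X

variable {A : Subgroup G} {e : ℕ}

theorem Sys.not_supp_one (_ : Sys A e) : (1 : G) ∉ Sys.supp A := fun h => (Sys.mem_supp.1 h).1 rfl

theorem Sys.mem_supp_self (_ : Sys A e) {a : G} (ha : a ∈ A) (ha1 : a ≠ 1) : a ∈ Sys.supp A :=
  Sys.mem_supp.2 ⟨ha1, 1, by simpa using ha⟩

theorem Sys.exists_fam (S : Sys A e) (h2 : 2 * e + 1 ≤ Nat.card A) : Nonempty (Fam A e) := by
  classical
  haveI : Fintype A := Fintype.ofFinite _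
  haveI : Finite (A →* ℂˣ) := inferInstance
  haveI := Fintype.ofFinite (A →* ℂˣ)
  obtain ⟨X, hcard, hagree, hconst, hvary, hsep, hnorm⟩ :=
    AbelianTI.exists_exceptional S.hC S.he h2
  choose c hc using hconst
  let cv : Cfsg.IrrCharacter G → ℤ := fun χ => if h : χ ∈ X then 0 else c χ h
  have hzero : ∀ χ ∈ X, cv χ = 0 := fun χ h => dif_pos h
  have hval : ∀ χ, χ ∉ X → ∀ a ∈ A, a ≠ 1 → (χ : G → ℂ) a = cv χ := fun χ h a ha ha1 => by
    simp only [cv, dif_neg h]; exact hc χ h a ha ha1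
  have hX2 : 2 ≤ X.card := by
    have h3 := S.he24
    by_contra hlt
    push Not at hlt
    have : e * X.card ≤ e * 1 := Nat.mul_le_mul_left e (by omega)
    rcases h3 with rfl | rfl <;> omega
  have hag : ∀ χ ∈ X, ∀ χ' ∈ X, ∀ g : G, g ∉ Sys.supp A → (χ : G → ℂ) g = (χ' : G → ℂ) g := by
    intro χ hχ χ' hχ' g hg
    refine hagree χ hχ χ' hχ' g fun x hx => ?_
    by_contra h1
    exact hg (Sys.mem_supp.2 ⟨fun e => h1 (by rw [e]; group), x, hx⟩)
  have htX : triv G ∉ X := fun h => by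
    obtain ⟨a, -, -, ha⟩ := hvary _ h 1
    exact ha rfl
  obtain ⟨χ₀, hχ₀⟩ := Finset.card_pos.1 (show 0 < X.card by omega)
  obtain ⟨a₀, ha₀, ha₀1⟩ := S.exists_ne
  -- sums over all characters
  have hsplit : ∀ (a : G), a ∈ A → a ≠ 1 → ∀ (F : Cfsg.IrrCharacter G → ℂ → ℂ), (∀ χ, F χ 0 = 0) →
      ∑ χ : Cfsg.IrrCharacter G, F χ ((χ : G → ℂ) a) =
        (∑ χ ∈ X, F χ ((χ : G → ℂ) a)) + ∑ χ : Cfsg.IrrCharacter G, F χ (cv χ : ℂ) := by
    intro a ha ha1 F hF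
    rw [← Finset.sum_sdiff (Finset.subset_univ X) (f := fun χ => F χ ((χ : G → ℂ) a)),
      ← Finset.sum_sdiff (Finset.subset_univ X) (f := fun χ => F χ (cv χ : ℂ)),
      Finset.sum_congr rfl (fun χ hχ => by rw [hval χ (Finset.mem_sdiff.1 hχ).2 a ha ha1] :
        ∀ χ ∈ Finset.univ \ X, F χ ((χ : G → ℂ) a) = F χ (cv χ : ℂ)),
      Finset.sum_congr rfl (fun χ hχ => by rw [hzero χ hχ, Int.cast_zero, hF] :
        ∀ χ ∈ X, F χ (cv χ : ℂ) = 0), Finset.sum_const_zero, add_zero]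
    ring
  have hdeg : ∀ χ ∈ X, dg χ = dg χ₀ := fun χ hχ => by
    have h := hag χ hχ χ₀ hχ₀ 1 S.not_supp_one
    rw [apply_one, apply_one] at h
    exact_mod_cast h
  set T : ℤ := ∑ χ : Cfsg.IrrCharacter G, dg χ * cv χ with hT
  have hS : ∀ a ∈ A, a ≠ 1 → (dg χ₀ : ℂ) * ∑ χ ∈ X, (χ : G → ℂ) a = -(T : ℂ) := by
    intro a ha ha1
    have h := hsplit a ha ha1 (fun χ z => (dg χ : ℂ) * z) (fun χ => mul_zero _)
    have h0 := sum_deg_mul (G := G) a
    rw [if_neg ha1] at h0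
    simp only [apply_one] at h0
    rw [h0, Finset.sum_congr rfl (fun χ hχ => by rw [hdeg χ hχ] :
      ∀ χ ∈ X, (dg χ : ℂ) * (χ : G → ℂ) a = (dg χ₀ : ℂ) * (χ : G → ℂ) a), ← Finset.mul_sum] at h
    rw [hT]; push_cast
    linear_combination -h
  have hd0 : (dg χ₀ : ℂ) ≠ 0 := by exact_mod_cast (show dg χ₀ ≠ 0 by have := dg_pos χ₀; omega)
  obtain ⟨s, hs⟩ : ∃ s : ℤ, ∀ a ∈ A, a ≠ 1 → ∑ χ ∈ X, (χ : G → ℂ) a = s := by
    have h1 : (((-T : ℚ) / (dg χ₀ : ℚ) : ℚ) : ℂ) = ∑ χ ∈ X, (χ : G → ℂ) a₀ := by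
      push_cast
      rw [div_eq_iff hd0, ← hS a₀ ha₀ ha₀1]; ring
    have hint : IsIntegral ℤ (((-T : ℚ) / (dg χ₀ : ℚ) : ℚ) : ℂ) := by
      rw [h1]
      exact IsIntegral.sum _ fun χ _ => IsCharacter.isIntegral (isCharacter_of_irr χ.2) a₀
    obtain ⟨z, hz⟩ := int_of_isIntegral_rat hint
    refine ⟨z, fun a ha ha1 => mul_left_cancel₀ hd0 ?_⟩
    rw [hz] at h1
    rw [hS a ha ha1, ← hS a₀ ha₀ ha₀1, ← h1]
    push_cast; rfl
  set Q : ℤ := ∑ χ : Cfsg.IrrCharacter G, cv χ * cv χ with hQ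
  have hnormX : ∀ a ∈ A, a ≠ 1 →
      ∑ χ ∈ X, (χ : G → ℂ) a * conj ((χ : G → ℂ) a) = (Nat.card A : ℂ) - Q := by
    intro a ha ha1
    have h := hsplit a ha ha1 (fun χ z => z * conj z) (fun χ => by simp)
    have h0 := second_orthogonality a a
    rw [if_pos (IsConj.refl a), S.hC a ha ha1] at h0
    rw [h0] at h
    simp only [map_intCast] at h
    rw [hQ]; push_cast
    linear_combination -h
  have hdel : 0 ≤ (e : ℤ) - Q := by
    have h := hnorm a₀ ha₀ ha₀1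
    have h' : (∑ χ ∈ X, Complex.normSq ((χ : G → ℂ) a₀) : ℝ) = (Nat.card A : ℝ) - Q := by
      apply Complex.ofReal_injective
      push_cast
      rw [← hnormX a₀ ha₀ ha₀1]
      exact Finset.sum_congr rfl fun χ _ => (Complex.mul_conj _).symm
    rw [h'] at h
    have : (Q : ℝ) ≤ ((e : ℤ) : ℝ) := by push_cast; linarith
    have := Int.cast_le.1 this
    omega
  -- the square of the sum
  have hsq : s * s = (X.card : ℤ) * ((e : ℤ) - Q) + 1 := by
    have hpair : ∀ χ ∈ X, ∀ χ' ∈ X, ∑ a ∈ (Finset.univ : Finset A).erase 1,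
        ((χ : G → ℂ) a - (χ' : G → ℂ) a) * conj ((χ : G → ℂ) a - (χ' : G → ℂ) a) =
        2 * ((Nat.card A : ℂ) * e) - if χ = χ' then 2 * ((Nat.card A : ℂ) * e) else 0 := by
      intro χ hχ χ' hχ'
      split_ifs with heq
      · subst heq; simp
      set F : G → ℂ := fun g =>
        ((χ : G → ℂ) g - (χ' : G → ℂ) g) * conj ((χ : G → ℂ) g - (χ' : G → ℂ) g) with hF
      have h1 := S.sum_supp F (fun g x => by
        simp only [hF, isClassFunction_irr χ g x, isClassFunction_irr χ' g x])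
      have h2 : ∑ g ∈ Sys.supp A, F g = ∑ g, F g :=
        Finset.sum_subset (Finset.subset_univ _) fun g _ hg => by
          simp only [hF, hag χ hχ χ' hχ' g hg, sub_self, zero_mul]
      have h3 : ∑ g, F g = (Nat.card G : ℂ) * 2 := by
        have h4 : Cfsg.classInner ((χ : G → ℂ) - (χ' : G → ℂ)) ((χ : G → ℂ) - (χ' : G → ℂ)) = 2 := by
          rw [classInner_sub_left, classInner_sub_right, classInner_sub_right, classInner_irr_self,
            classInner_irr_self, classInner_irr_ne heq, classInner_irr_ne (Ne.symm heq)]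
          norm_num
        rw [classInner_def, inv_mul_eq_iff_eq_mul₀ (by exact_mod_cast Nat.card_pos.ne')] at h4
        rw [← h4]
        rfl
      rw [h2, h3] at h1
      push_cast at h1
      rw [sub_zero]
      refine mul_left_cancel₀ (show (Nat.card G : ℂ) ≠ 0 by exact_mod_cast Nat.card_pos.ne') ?_
      simp only [hF] at h1
      linear_combination -h1
    have hexp : ∀ a ∈ (Finset.univ : Finset A).erase 1,
        ∑ χ ∈ X, ∑ χ' ∈ X, ((χ : G → ℂ) a - (χ' : G → ℂ) a) * conj ((χ : G → ℂ) a - (χ' : G → ℂ) a) =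
        2 * (X.card : ℂ) * ((Nat.card A : ℂ) - Q) - 2 * (s : ℂ) * s := by
      intro a ha
      have ha1 : (a : G) ≠ 1 := fun h => (Finset.mem_erase.1 ha).1 (Subtype.ext h)
      have hs1 := hs a a.2 ha1
      have hs2 : ∑ χ ∈ X, conj ((χ : G → ℂ) a) = s := by rw [← map_sum, hs1, map_intCast]
      simp only [map_sub, mul_sub, sub_mul, Finset.sum_sub_distrib, Finset.sum_const, nsmul_eq_mul,
        ← Finset.mul_sum, ← Finset.sum_mul, hnormX a a.2 ha1, hs1, hs2]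
      ring
    have h5 : ∑ χ ∈ X, ∑ χ' ∈ X, ∑ a ∈ (Finset.univ : Finset A).erase 1,
        ((χ : G → ℂ) a - (χ' : G → ℂ) a) * conj ((χ : G → ℂ) a - (χ' : G → ℂ) a) =
        ((Nat.card A : ℂ) - 1) * (2 * (X.card : ℂ) * ((Nat.card A : ℂ) - Q) - 2 * (s : ℂ) * s) := by
      rw [Finset.sum_congr rfl fun χ _ => Finset.sum_comm, Finset.sum_comm,
        Finset.sum_congr rfl hexp, Finset.sum_const, Finset.card_erase_of_mem (Finset.mem_univ _),
        Finset.card_univ, nsmul_eq_mul, ← Nat.card_eq_fintype_card, Nat.cast_sub Nat.card_pos,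
        Nat.cast_one]
    rw [Finset.sum_congr rfl fun χ hχ => Finset.sum_congr rfl (hpair χ hχ)] at h5
    simp only [Finset.sum_sub_distrib, Finset.sum_ite_eq, Finset.sum_const, nsmul_eq_mul] at h5
    rw [Finset.sum_congr rfl (fun χ hχ => if_pos hχ :
      ∀ χ ∈ X, (if χ ∈ X then (2 * ((Nat.card A : ℂ) * e) : ℂ) else 0) = 2 * ((Nat.card A : ℂ) * e)),
      Finset.sum_const, nsmul_eq_mul] at h5
    have hn : (Nat.card A : ℂ) = (e : ℂ) * X.card + 1 := by exact_mod_cast hcard.symm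
    have h6 : (s : ℂ) * s = (X.card : ℂ) * ((e : ℂ) - Q) + 1 := by
      have h7 : (2 * (e : ℂ) * (X.card : ℂ)) ≠ 0 := by
        have : (2 * e * X.card : ℕ) ≠ 0 := by
          have := S.he24; simp only [ne_eq, mul_eq_zero]; omega
        exact_mod_cast this
      rw [hn] at h5
      refine mul_left_cancel₀ h7 ?_
      linear_combination h5
    exact_mod_cast h6
  have hcongr : ∀ χ, χ ∉ X → (Nat.card A : ℤ) ∣ dg χ - cv χ := by
    intro χ hχ
    obtain ⟨m, hm⟩ := classInner_char_nat (IsCharacter.restrict (isCharacter_of_irr χ.2) A)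
      (isCharacter_of_irr (isIrrCharacter_linear (1 : A →* ℂˣ)))
    rw [classInner_def, inv_mul_eq_iff_eq_mul₀ (by exact_mod_cast Nat.card_pos.ne')] at hm
    simp only [MonoidHom.one_apply, Units.val_one, map_one, mul_one] at hm
    rw [← Finset.add_sum_erase Finset.univ _ (Finset.mem_univ (1 : A)),
      Finset.sum_congr rfl fun (a : A) ha => hval χ hχ a a.2 (fun h => (Finset.mem_erase.1 ha).1 (Subtype.ext h)),
      Finset.sum_const, Finset.card_erase_of_mem (Finset.mem_univ _), Finset.card_univ, nsmul_eq_mul,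
      Subgroup.coe_one, apply_one, ← Nat.card_eq_fintype_card, Nat.cast_sub Nat.card_pos,
      Nat.cast_one] at hm
    refine ⟨(m : ℤ) - cv χ, ?_⟩
    have h : ((dg χ - cv χ : ℤ) : ℂ) = (((Nat.card A : ℤ) * ((m : ℤ) - cv χ) : ℤ) : ℂ) := by
      push_cast; linear_combination hm
    exact_mod_cast h
  refine ⟨⟨X, cv, s, (e : ℤ) - Q, hcard, hX2, hzero, hval, hvary, hag, hsep, hs, by rw [hQ]; ring,
    hdel, hsq, hcongr, ?_, htX⟩⟩
  have h := hval _ htX a₀ ha₀ ha₀1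
  rw [triv_apply] at h
  exact_mod_cast h.symm

namespace Fam

variable (F : Fam A e)

theorem card_pos : 0 < F.X.card := by have := F.two; omega

/-- A weighted column sum. -/
theorem split (φ : Cfsg.IrrCharacter G → ℂ) (w : ℂ) (hw : ∀ χ ∈ F.X, φ χ = w)
    {a : G} (ha : a ∈ A) (ha1 : a ≠ 1) :
    ∑ χ : Cfsg.IrrCharacter G, φ χ * (χ : G → ℂ) a =
      (∑ χ : Cfsg.IrrCharacter G, φ χ * F.cv χ) + w * F.s := by
  classical
  rw [← Finset.sum_sdiff (Finset.subset_univ F.X) (f := fun χ => φ χ * (χ : G → ℂ) a),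
    ← Finset.sum_sdiff (Finset.subset_univ F.X) (f := fun χ => φ χ * (F.cv χ : ℂ)),
    Finset.sum_congr rfl (fun χ hχ => by rw [F.const χ (Finset.mem_sdiff.1 hχ).2 a ha ha1] :
      ∀ χ ∈ Finset.univ \ F.X, φ χ * (χ : G → ℂ) a = φ χ * (F.cv χ : ℂ)),
    Finset.sum_congr rfl (fun χ hχ => by rw [F.zero χ hχ, Int.cast_zero, mul_zero] :
      ∀ χ ∈ F.X, φ χ * (F.cv χ : ℂ) = 0), Finset.sum_const_zero, add_zero,
    Finset.sum_congr rfl (fun χ hχ => by rw [hw χ hχ] :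
      ∀ χ ∈ F.X, φ χ * (χ : G → ℂ) a = w * (χ : G → ℂ) a), ← Finset.mul_sum, F.sum a ha ha1]

theorem split_conj (φ : Cfsg.IrrCharacter G → ℂ) (w : ℂ) (hw : ∀ χ ∈ F.X, φ χ = w)
    {a : G} (ha : a ∈ A) (ha1 : a ≠ 1) :
    ∑ χ : Cfsg.IrrCharacter G, φ χ * conj ((χ : G → ℂ) a) =
      (∑ χ : Cfsg.IrrCharacter G, φ χ * F.cv χ) + w * F.s := by
  have h := congrArg conj (F.split (fun χ => conj (φ χ)) (conj w) (fun χ hχ => congrArg conj (hw χ hχ)) ha ha1)
  simp only [map_sum, map_add, map_mul, Complex.conj_conj, map_intCast] at h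
  exact h

theorem dg_eq (S : Sys A e) {χ χ' : Cfsg.IrrCharacter G} (h : χ ∈ F.X) (h' : χ' ∈ F.X) :
    dg χ = dg χ' := by
  have h1 := F.agree χ h χ' h' 1 S.not_supp_one
  rw [apply_one, apply_one] at h1
  exact_mod_cast h1

end Fam

theorem Sys.sq_mem_supp_iff (S : Sys A e) {y : G} : y * y ∈ Sys.supp A ↔ y ∈ Sys.supp A := by
  constructor
  · intro h
    obtain ⟨h1, x, hx⟩ := Sys.mem_supp.1 h
    refine Sys.mem_supp.2 ⟨fun e => h1 (by rw [e, one_mul]), x, ?_⟩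
    refine S.mem_of_commute hx ?_ (by group)
    intro e
    refine h1 ?_
    calc y * y = x * (x⁻¹ * (y * y) * x) * x⁻¹ := by group
      _ = 1 := by rw [e]; group
  · intro h
    obtain ⟨h1, x, hx⟩ := Sys.mem_supp.1 h
    refine Sys.mem_supp.2 ⟨fun e => ?_, x, ?_⟩
    · have ho : orderOf y ∣ 2 := orderOf_dvd_of_pow_eq_one (by rw [pow_two, e])
      have hne : orderOf y ≠ 1 := fun h' => h1 (orderOf_eq_one_iff.1 h')
      have hy2 : orderOf y = 2 := (Nat.prime_two.eq_one_or_self_of_dvd _ ho).resolve_left hne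
      have hc : orderOf (⟨x⁻¹ * y * x, hx⟩ : A) = 2 := by
        rw [← Subgroup.orderOf_coe]
        show orderOf (x⁻¹ * y * x) = 2
        rw [show x⁻¹ * y * x = MulAut.conj x⁻¹ y by simp]
        exact ((MulAut.conj x⁻¹).orderOf_eq y).trans hy2
      have := orderOf_dvd_natCard (⟨x⁻¹ * y * x, hx⟩ : A)
      rw [hc] at this
      exact S.odd.not_two_dvd_nat this
    · rw [show x⁻¹ * (y * y) * x = (x⁻¹ * y * x) * (x⁻¹ * y * x) by group]
      exact mul_mem hx hx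

theorem Sys.sq_injOn (S : Sys A e) : ∀ y ∈ Sys.supp A, ∀ z ∈ Sys.supp A, y * y = z * z → y = z := by
  intro y hy z hz h
  obtain ⟨h1, x, hx⟩ := Sys.mem_supp.1 (S.sq_mem_supp_iff.2 hy)
  have hne : x⁻¹ * (y * y) * x ≠ 1 := fun e => h1 (by
    calc y * y = x * (x⁻¹ * (y * y) * x) * x⁻¹ := by group
      _ = 1 := by rw [e]; group)
  have hyA : x⁻¹ * y * x ∈ A := S.mem_of_commute hx hne (by group)
  have hzA : x⁻¹ * z * x ∈ A := S.mem_of_commute hx hne (by rw [h]; group)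
  have hsq : (x⁻¹ * y * x * (x⁻¹ * z * x)⁻¹) * (x⁻¹ * y * x * (x⁻¹ * z * x)⁻¹) = 1 := by
    have hc := S.comm (inv_mem hzA) hyA
    calc _ = x⁻¹ * y * x * ((x⁻¹ * z * x)⁻¹ * (x⁻¹ * y * x)) * (x⁻¹ * z * x)⁻¹ := by group
      _ = x⁻¹ * y * x * ((x⁻¹ * y * x) * (x⁻¹ * z * x)⁻¹) * (x⁻¹ * z * x)⁻¹ := by rw [hc]
      _ = x⁻¹ * (y * y) * x * (x⁻¹ * (z * z) * x)⁻¹ := by group
      _ = 1 := by rw [h, mul_inv_cancel]
  obtain ⟨k, hk⟩ := S.odd
  have hu : (⟨_, mul_mem hyA (inv_mem hzA)⟩ : A) ^ Nat.card A = 1 := pow_card_eq_one'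
  have hu' := congrArg Subtype.val hu
  simp only [SubmonoidClass.coe_pow, OneMemClass.coe_one] at hu'
  rw [hk, pow_succ, pow_mul, pow_two, hsq, one_pow, one_mul] at hu'
  have := mul_inv_eq_one.1 hu'
  exact mul_left_cancel (mul_right_cancel this)

/-- The number of square roots of an element of `A`. -/
theorem Sys.card_sqrt (S : Sys A e) {a : G} (ha : a ∈ A) (ha1 : a ≠ 1) :
    Nat.card {y : G // y * y = a} = 1 := by
  obtain ⟨b, hb, hbb⟩ := S.exists_half ha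
  rw [Nat.card_eq_one_iff_unique]
  refine ⟨⟨fun y z => Subtype.ext ?_⟩, ⟨⟨b, hbb⟩⟩⟩
  exact S.sq_injOn _ (S.sq_mem_supp_iff.1 (by rw [y.2]; exact S.mem_supp_self ha ha1)) _
    (S.sq_mem_supp_iff.1 (by rw [z.2]; exact S.mem_supp_self ha ha1)) (y.2.trans z.2.symm)

theorem Fam.nu_eq (S : Sys A e) (F : Fam A e) (ν : Cfsg.IrrCharacter G → ℤ)
    (hν : ∀ χ : Cfsg.IrrCharacter G, ∑ s, (χ : G → ℂ) (s * s) = (Nat.card G : ℂ) * ν χ)
    {χ χ' : Cfsg.IrrCharacter G} (h : χ ∈ F.X) (h' : χ' ∈ F.X) : ν χ = ν χ' := by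
  classical
  rcases eq_or_ne χ χ' with rfl | hne
  · rfl
  set D : G → ℂ := fun g => (χ : G → ℂ) g - (χ' : G → ℂ) g with hD
  have hzero : ∀ g, g ∉ Sys.supp A → D g = 0 := fun g hg => by
    simp only [hD, F.agree χ h χ' h' g hg, sub_self]
  have h1 : ∑ y, D (y * y) = ∑ g, D g := by
    rw [← Finset.sum_subset (Finset.subset_univ (Sys.supp A)) fun g _ hg => hzero _ fun hh =>
        hg (S.sq_mem_supp_iff.1 hh),
      ← Finset.sum_subset (Finset.subset_univ (Sys.supp A)) fun g _ hg => hzero g hg]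
    refine Finset.sum_nbij (fun y => y * y) (fun y hy => S.sq_mem_supp_iff.2 hy)
      (fun y hy z hz hyz => S.sq_injOn y hy z hz hyz) (fun g hg => ?_) (fun _ _ => rfl)
    obtain ⟨h1, x, hx⟩ := Sys.mem_supp.1 hg
    obtain ⟨b, hb, hbb⟩ := S.exists_half hx
    have hsq : x * b * x⁻¹ * (x * b * x⁻¹) = g := by
      calc _ = x * (b * b) * x⁻¹ := by group
        _ = g := by rw [hbb]; group
    exact ⟨x * b * x⁻¹, S.sq_mem_supp_iff.1 (by rw [hsq]; exact hg), hsq⟩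
  have h2 : ∀ ψ ∈ F.X, ∑ g, (ψ : G → ℂ) g = 0 := by
    intro ψ hψ
    have h3 := classInner_irr_ne (fun e' => F.triv_not_mem (e' ▸ hψ) : ψ ≠ triv G)
    rw [classInner_def] at h3
    simp only [triv_apply, map_one, mul_one] at h3
    exact (mul_eq_zero.1 h3).resolve_left (inv_ne_zero (by exact_mod_cast Nat.card_pos.ne'))
  simp only [hD, Finset.sum_sub_distrib, hν, h2 χ h, h2 χ' h', sub_zero] at h1
  have h4 : (Nat.card G : ℂ) * ((ν χ : ℂ) - ν χ') = 0 := by linear_combination h1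
  have h5 := (mul_eq_zero.1 h4).resolve_left (by exact_mod_cast Nat.card_pos.ne')
  exact_mod_cast sub_eq_zero.1 h5

end Cfsg.Lib.SuzSystem
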