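import Cfsg.Agent.Chars.AbelianTIExc
import Mathlib

/-!
# A strongly self-centralising subgroup with an even index in its normaliser
-/

set_option autoImplicit false
set_option linter.unusedSectionVars false
set_option linter.style.haveILetI false

namespace Cfsg.Lib.SuzSystem

open Subgroup

universe u

variable {G : Type u} [Group G] [Finite G]

/-- A strongly self-centralising subgroup of index `e` in its normaliser, `e` two or four. -/
structure Sys (A : Subgroup G) (e : ℕ) : Prop where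
  hC : ∀ a ∈ A, a ≠ 1 → centralizer ({a} : Set G) = A
  he : (A.subgroupOf (normalizer (A : Set G))).index = e
  he24 : e = 2 ∨ e = 4
  hn : 5 ≤ Nat.card A

namespace Sys

variable {A B : Subgroup G} {e e' : ℕ}

theorem comm (S : Sys A e) {a b : G} (ha : a ∈ A) (hb : b ∈ A) : a * b = b * a := by
  rcases eq_or_ne a 1 with rfl | h
  · simp
  · rw [← S.hC a ha h, mem_centralizer_singleton_iff] at hb
    exact hb.symm

theorem mem_of_commute (S : Sys A e) {a g : G} (ha : a ∈ A) (ha1 : a ≠ 1) (h : g * a = a * g) :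
    g ∈ A := by
  rw [← S.hC a ha ha1, mem_centralizer_singleton_iff]
  exact h

theorem mem_normalizer_of_conj [Fintype G] (S : Sys A e) {x a : G} (ha : a ∈ A) (ha1 : a ≠ 1)
    (h : x * a * x⁻¹ ∈ A) : x ∈ normalizer (A : Set G) :=
  (Cfsg.Lib.Chars.AbelianTI.setting S.hC).ti x a ha ha1 h

theorem conj_mem (_ : Sys A e) {x a : G} (hx : x ∈ normalizer (A : Set G)) (ha : a ∈ A) :
    x * a * x⁻¹ ∈ A :=
  (mem_normalizer_iff.1 hx a).1 ha

theorem fix (S : Sys A e) {x a : G} (hxA : x ∉ A) (ha : a ∈ A)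
    (h : x * a * x⁻¹ = a) : a = 1 := by
  by_contra h1
  refine hxA (S.mem_of_commute ha h1 ?_)
  calc x * a = x * a * x⁻¹ * x := by group
    _ = a * x := by rw [h]

theorem invert (S : Sys A e) {x : G} (hx : x ∈ normalizer (A : Set G)) (hxA : x ∉ A)
    (hxx : x * x ∈ A) : x * x = 1 ∧ ∀ a ∈ A, x * a * x⁻¹ = a⁻¹ := by
  have h2 : x * x = 1 := S.fix hxA hxx (by group)
  refine ⟨h2, fun a ha => ?_⟩
  have hb := S.conj_mem hx ha
  have hfix : x * (a * (x * a * x⁻¹)) * x⁻¹ = a * (x * a * x⁻¹) := by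
    calc x * (a * (x * a * x⁻¹)) * x⁻¹ = (x * a * x⁻¹) * (x * x * a * (x * x)⁻¹) := by group
      _ = (x * a * x⁻¹) * a := by rw [h2]; group
      _ = a * (x * a * x⁻¹) := S.comm hb ha
  exact eq_inv_of_mul_eq_one_right (S.fix hxA (mul_mem ha hb) hfix)

theorem one_lt (S : Sys A e) : 1 < Nat.card A := by have := S.hn; omega

theorem exists_ne (S : Sys A e) : ∃ a ∈ A, a ≠ (1 : G) := by
  haveI : Nontrivial A := Finite.one_lt_card_iff_nontrivial.1 S.one_lt
  obtain ⟨a, ha⟩ := _root_.exists_ne (1 : A)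
  exact ⟨a, a.2, fun h => ha (Subtype.ext h)⟩

theorem exists_inverter (S : Sys A e) :
    ∃ w ∈ normalizer (A : Set G), w ∉ A ∧ w * w ∈ A := by
  haveI : (A.subgroupOf (normalizer (A : Set G))).Normal := inferInstance
  have hdvd : 2 ∣ Nat.card (↥(normalizer (A : Set G)) ⧸ A.subgroupOf (normalizer (A : Set G))) := by
    show 2 ∣ (A.subgroupOf (normalizer (A : Set G))).index
    rw [S.he]; rcases S.he24 with rfl | rfl <;> norm_num
  haveI : Fact (Nat.Prime 2) := ⟨Nat.prime_two⟩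
  obtain ⟨q, hq⟩ := exists_prime_orderOf_dvd_card' 2 hdvd
  obtain ⟨x, rfl⟩ := QuotientGroup.mk_surjective q
  refine ⟨x, x.2, fun hx => ?_, ?_⟩
  · rw [(QuotientGroup.eq_one_iff x).2 (mem_subgroupOf.2 hx), orderOf_one] at hq
    exact absurd hq (by norm_num)
  · have h := pow_orderOf_eq_one ((x : ↥(normalizer (A : Set G)) ⧸ A.subgroupOf (normalizer (A : Set G))))
    rw [hq, pow_two, ← QuotientGroup.mk_mul, QuotientGroup.eq_one_iff, mem_subgroupOf] at h
    exact h

theorem odd (S : Sys A e) : Odd (Nat.card A) := by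
  rw [← Nat.not_even_iff_odd, even_iff_two_dvd]
  intro h2
  haveI : Fact (Nat.Prime 2) := ⟨Nat.prime_two⟩
  obtain ⟨a, ha⟩ := exists_prime_orderOf_dvd_card' 2 h2
  obtain ⟨w, hw, hwA, hww⟩ := S.exists_inverter
  have hinv : ((a : G))⁻¹ = a := by
    have := pow_orderOf_eq_one a
    rw [ha, pow_two] at this
    exact inv_eq_of_mul_eq_one_right (congrArg Subtype.val this)
  have := S.fix hwA a.2 (((S.invert hw hwA hww).2 a a.2).trans hinv)
  rw [show a = 1 from Subtype.ext this, orderOf_one] at ha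
  norm_num at ha

theorem exists_half (S : Sys A e) {a : G} (ha : a ∈ A) : ∃ b ∈ A, b * b = a := by
  obtain ⟨k, hk⟩ := S.odd
  refine ⟨a ^ (k + 1), pow_mem ha _, ?_⟩
  have h1 : (⟨a, ha⟩ : A) ^ Nat.card A = 1 := pow_card_eq_one'
  have h2 := congrArg Subtype.val h1
  simp only [SubmonoidClass.coe_pow, OneMemClass.coe_one] at h2
  rw [← pow_add, show k + 1 + (k + 1) = Nat.card A + 1 by omega, pow_succ, h2, one_mul]

theorem exists_order_four (S : Sys A 4) :
    ∃ y ∈ normalizer (A : Set G), orderOf y = 4 ∧ y * y ∉ A := by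
  set N := normalizer (A : Set G)
  haveI : (A.subgroupOf N).Normal := inferInstance
  obtain ⟨w, hw, hwA, hww⟩ := S.exists_inverter
  obtain ⟨y, hy, hyy⟩ : ∃ y ∈ N, y * y ∉ A := by
    by_contra hall
    push Not at hall
    -- every element outside inverts, so two of them differ by an element of the group
    have hinv : ∀ x ∈ N, x ∉ A → x * w⁻¹ ∈ A := by
      intro x hx hxA
      obtain ⟨a, ha, ha1⟩ := S.exists_ne
      refine S.mem_of_commute ha ha1 ?_
      have h1 := (S.invert hx hxA (hall x hx)).2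
      have h2 := (S.invert hw hwA hww).2
      have h3 : w⁻¹ * a * w = a⁻¹ := by
        have h4 := h2 a⁻¹ (inv_mem ha)
        rw [inv_inv] at h4
        calc w⁻¹ * a * w = w⁻¹ * (w * a⁻¹ * w⁻¹) * w := by rw [h4]
          _ = a⁻¹ := by group
      calc x * w⁻¹ * a = x * (w⁻¹ * a * w) * x⁻¹ * (x * w⁻¹) := by group
        _ = a * (x * w⁻¹) := by rw [h3, h1 _ (inv_mem ha), inv_inv]
    have hle : Nat.card (↥N ⧸ A.subgroupOf N) ≤ 2 := by
      refine (Nat.card_le_card_of_surjective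
        (fun b : Bool => if b then QuotientGroup.mk (⟨w, hw⟩ : N) else 1) fun q => ?_).trans
        (by simp)
      obtain ⟨x, rfl⟩ := QuotientGroup.mk_surjective q
      by_cases hx : (x : G) ∈ A
      · exact ⟨false, by simpa using ((QuotientGroup.eq_one_iff x).2 (mem_subgroupOf.2 hx)).symm⟩
      · refine ⟨true, ?_⟩
        simp only [if_true]
        refine QuotientGroup.eq.2 (mem_subgroupOf.2 ?_)
        have h5 := hinv x x.2 hx
        show w⁻¹ * (x : G) ∈ A
        rw [show w⁻¹ * (x : G) = w⁻¹ * ((x : G) * w⁻¹) * w⁻¹⁻¹ by group]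
        exact S.conj_mem (inv_mem hw) h5
    rw [show Nat.card (↥N ⧸ A.subgroupOf N) = 4 from S.he] at hle
    omega
  have h4 : y ^ 4 ∈ A := by
    have h := (A.subgroupOf N).pow_index_mem (⟨y, hy⟩ : N)
    rw [S.he, mem_subgroupOf, SubmonoidClass.coe_pow] at h
    exact h
  have hy2 : (y * y) * (y * y) = 1 :=
    (S.invert (mul_mem hy hy) hyy (by rwa [show y * y * (y * y) = y ^ 4 by simp [pow_succ, mul_assoc]])).1
  refine ⟨y, hy, orderOf_eq_prime_pow (p := 2) (n := 1) ?_ ?_, hyy⟩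
  · intro h
    rw [pow_one, pow_two] at h
    exact hyy (h ▸ one_mem A)
  · rw [show 2 ^ (1 + 1) = 4 by norm_num, show y ^ 4 = y * y * (y * y) by simp [pow_succ, mul_assoc], hy2]

theorem map_conj_eq (S : Sys A e) (T : Sys B e') {x a : G} (ha : a ∈ A) (ha1 : a ≠ 1)
    (h : x * a * x⁻¹ ∈ B) : A.map (MulAut.conj x).toMonoidHom = B := by
  have h1 : x * a * x⁻¹ ≠ 1 := fun e' => ha1 (conj_eq_one_iff.1 e')
  apply le_antisymm
  · rintro _ ⟨z, hz, rfl⟩
    refine T.mem_of_commute h h1 ?_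
    show x * z * x⁻¹ * (x * a * x⁻¹) = x * a * x⁻¹ * (x * z * x⁻¹)
    calc _ = x * (z * a) * x⁻¹ := by group
      _ = x * (a * z) * x⁻¹ := by rw [S.comm hz ha]
      _ = _ := by group
  · intro b hb
    refine ⟨x⁻¹ * b * x, S.mem_of_commute ha ha1 ?_, ?_⟩
    · calc x⁻¹ * b * x * a = x⁻¹ * (b * (x * a * x⁻¹)) * x := by group
        _ = x⁻¹ * ((x * a * x⁻¹) * b) * x := by rw [T.comm hb h]
        _ = _ := by group
    · show x * (x⁻¹ * b * x) * x⁻¹ = b
      group

/-- The elements of prime power order for a prime dividing the order of `A` are conjugate into it. -/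
theorem pgroup_conj (S : Sys A e) {p : ℕ} (hp : p.Prime) (hd : p ∣ Nat.card A) (P : Sylow p G) :
    ∃ x : G, ∀ g ∈ (P : Subgroup G), x * g * x⁻¹ ∈ A := by
  haveI : Fact p.Prime := ⟨hp⟩
  obtain ⟨a, ha⟩ := exists_prime_orderOf_dvd_card' p hd
  have hao : orderOf (a : G) = p := by rw [Subgroup.orderOf_coe, ha]
  have hpa : IsPGroup p (zpowers (a : G)) := by
    refine IsPGroup.of_card (n := 1) ?_
    rw [Nat.card_zpowers, hao, pow_one]
  obtain ⟨Q, hQ⟩ := hpa.exists_le_sylow
  have haQ : (a : G) ∈ (Q : Subgroup G) := hQ (mem_zpowers _)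
  have ha1 : (a : G) ≠ 1 := fun h => by
    rw [h, orderOf_one] at hao; exact hp.one_lt.ne hao
  haveI : Nontrivial (Q : Subgroup G) :=
    ⟨⟨⟨a, haQ⟩, 1, fun h => ha1 (congrArg Subtype.val h)⟩⟩
  obtain ⟨z, hz, hz1⟩ := (Subgroup.ne_bot_iff_exists_ne_one.1
    (Subgroup.nontrivial_iff_ne_bot _ |>.1 Q.isPGroup'.center_nontrivial)) |> fun ⟨z, hz⟩ =>
      (⟨z.1, z.2, fun h => hz (Subtype.ext h)⟩ : ∃ z ∈ center (Q : Subgroup G), z ≠ 1)
  have hzA : (z : G) ∈ A := S.mem_of_commute a.2 ha1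
    (congrArg Subtype.val (mem_center_iff.1 hz ⟨a, haQ⟩)).symm
  have hQA : ∀ g ∈ (Q : Subgroup G), g ∈ A := fun g hg =>
    S.mem_of_commute hzA (fun h => hz1 (Subtype.ext h))
      (congrArg Subtype.val (mem_center_iff.1 hz ⟨g, hg⟩))
  obtain ⟨x, hx⟩ := MulAction.exists_smul_eq G P Q
  refine ⟨x, fun g hg => hQA _ ?_⟩
  rw [← hx]
  exact ⟨g, hg, rfl⟩

theorem coprime (S : Sys A e) (T : Sys B e')
    (hne : ∀ x : G, A.map (MulAut.conj x).toMonoidHom ≠ B) :
    (Nat.card A).Coprime (Nat.card B) := by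
  refine Nat.coprime_of_dvd fun p hp hA hB => ?_
  haveI : Fact p.Prime := ⟨hp⟩
  obtain ⟨a, ha⟩ := exists_prime_orderOf_dvd_card' p hA
  have ha1 : (a : G) ≠ 1 := fun h => by
    rw [show a = 1 from Subtype.ext h, orderOf_one] at ha
    exact hp.one_lt.ne ha
  have hpa : IsPGroup p (zpowers (a : G)) := by
    refine IsPGroup.of_card (n := 1) ?_
    rw [Nat.card_zpowers, Subgroup.orderOf_coe, ha, pow_one]
  obtain ⟨Q, hQ⟩ := hpa.exists_le_sylow
  obtain ⟨x, hx⟩ := T.pgroup_conj hp hB Q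
  exact hne x (S.map_conj_eq T a.2 ha1 (hx _ (hQ (mem_zpowers _))))

theorem card_dvd_coprime (S : Sys A e) {h : ℕ} (hcard : Nat.card G = Nat.card A * h) :
    (Nat.card A).Coprime h := by
  refine Nat.coprime_of_dvd fun p hp hA hh => ?_
  haveI : Fact p.Prime := ⟨hp⟩
  obtain ⟨P⟩ := (inferInstance : Nonempty (Sylow p G))
  obtain ⟨x, hx⟩ := S.pgroup_conj hp hA P
  have h1 : Nat.card (P : Subgroup G) ∣ Nat.card A := by
    rw [Nat.card_congr ((P : Subgroup G).equivMapOfInjective (MulAut.conj x).toMonoidHom (MulAut.conj x).injective).toEquiv]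
    refine card_dvd_of_le ?_
    rintro _ ⟨g, hg, rfl⟩
    exact hx g hg
  have h2 : p ^ ((Nat.card G).factorization p + 1) ∣ Nat.card G := by
    rw [pow_succ]
    nth_rewrite 2 [hcard]
    rw [P.card_eq_multiplicity] at h1
    exact mul_dvd_mul h1 hh
  exact Nat.pow_succ_factorization_not_dvd Nat.card_pos.ne' hp h2

theorem dvd_sub_one (S : Sys A e) : ∃ k, e * k + 1 = Nat.card A := by
  classical
  haveI := Fintype.ofFinite G
  haveI : Fintype (normalizer (A : Set G)) := Fintype.ofFinite _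
  haveI : Fintype A := Fintype.ofFinite _
  have h : Cfsg.Lib.Chars.StarTI.Setting A A (normalizer (A : Set G)) :=
    Cfsg.Lib.Chars.AbelianTI.setting S.hC
  have hcomm : ∀ a b : A, a * b = b * a := fun a b => Subtype.ext (S.comm a.2 b.2)
  haveI := Fintype.ofFinite (A →* ℂˣ)
  set O := (Finset.univ.erase (1 : A →* ℂˣ)).image (Cfsg.Lib.Chars.StarSylow.orb h) with hO
  choose r hr hro using fun o : O => Finset.mem_image.1 o.2
  have hsum := Cfsg.Lib.Chars.AbelianTI.sum_orbits h r (fun o => (Finset.mem_erase.1 (hr o)).1)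
    (fun o o' hoo => Subtype.ext (by rw [← hro o, ← hro o']; exact hoo))
    (fun α hα => ⟨⟨_, Finset.mem_image_of_mem _ (Finset.mem_erase.2 ⟨hα, Finset.mem_univ α⟩)⟩, hro _⟩)
    (fun _ => 1) (fun _ _ => rfl)
  simp only [Finset.sum_const, Finset.card_erase_of_mem (Finset.mem_univ _), Finset.card_univ,
    nsmul_eq_mul, mul_one, S.he] at hsum
  refine ⟨Fintype.card O, ?_⟩
  rw [← Cfsg.Lib.Dual.card_hom hcomm, Nat.card_eq_fintype_card]
  have h2 : Fintype.card (A →* ℂˣ) - 1 = e * Fintype.card O := by exact_mod_cast hsum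
  have : 0 < Fintype.card (A →* ℂˣ) := Fintype.card_pos
  omega

theorem card_normalizer (S : Sys A e) :
    Nat.card (normalizer (A : Set G)) = Nat.card A * e := by
  rw [← (A.subgroupOf (normalizer (A : Set G))).card_mul_index, S.he,
    Nat.card_congr (subgroupOfEquivOfLe le_normalizer).toEquiv]

theorem mem_of_normalizer (S : Sys A e) {g : G} (hg : g ∈ normalizer (A : Set G))
    (ho : (orderOf g).Coprime e) : g ∈ A := by
  have h := (A.subgroupOf (normalizer (A : Set G))).pow_index_mem (⟨g, hg⟩ : normalizer (A : Set G))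
  rw [S.he, mem_subgroupOf, SubmonoidClass.coe_pow] at h
  obtain ⟨k, hk⟩ := exists_pow_eq_self_of_coprime ho.symm
  rw [← hk]
  exact pow_mem h k

/-- The number of conjugates is congruent to one modulo the order. -/
theorem card_congr (S : Sys A e) :
    ∃ K : ℕ, Nat.card G = Nat.card A * e * K ∧ (Nat.card A : ℤ) ∣ (K : ℤ) - 1 := by
  classical
  haveI := Fintype.ofFinite G
  set N := normalizer (A : Set G) with hN
  refine ⟨N.index, by rw [← S.card_normalizer, N.card_mul_index], ?_⟩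
  haveI : Fintype A := Fintype.ofFinite _
  haveI : Fintype (G ⧸ N) := Fintype.ofFinite _
  haveI : Fintype (Quotient (MulAction.orbitRel A (G ⧸ N))) := Fintype.ofFinite _
  have hB := MulAction.sum_card_fixedBy_eq_card_orbits_mul_card_group A (G ⧸ N)
  have hone : ∀ a ∈ (Finset.univ : Finset A).erase 1,
      Fintype.card (MulAction.fixedBy (G ⧸ N) a) = 1 := by
    intro a ha
    have ha1 : (a : G) ≠ 1 := fun h => (Finset.mem_erase.1 ha).1 (Subtype.ext h)
    rw [Fintype.card_eq_one_iff]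
    refine ⟨⟨QuotientGroup.mk 1, ?_⟩, fun q => ?_⟩
    · show (a : G) • (QuotientGroup.mk 1 : G ⧸ N) = QuotientGroup.mk 1
      rw [MulAction.Quotient.smul_mk, smul_eq_mul, mul_one, QuotientGroup.eq, mul_one]
      exact inv_mem (le_normalizer a.2)
    · obtain ⟨q, hq⟩ := q
      obtain ⟨x, rfl⟩ := QuotientGroup.mk_surjective q
      replace hq : (a : G) • (QuotientGroup.mk x : G ⧸ N) = QuotientGroup.mk x := hq
      rw [MulAction.Quotient.smul_mk, smul_eq_mul, QuotientGroup.eq] at hq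
      have hco : (Nat.card A).Coprime e := by
        obtain ⟨k, hk⟩ := S.dvd_sub_one
        rw [← hk]; simp
      have hb : x⁻¹ * (a : G) * x ∈ A := by
        refine S.mem_of_normalizer ?_ ?_
        · rw [show x⁻¹ * (a : G) * x = ((↑a * x)⁻¹ * x)⁻¹ by group]; exact inv_mem hq
        · have : orderOf (x⁻¹ * (a : G) * x) = orderOf (a : G) :=
            MulEquiv.orderOf_eq (MulAut.conj x⁻¹) (a : G) |> fun h => by simpa using h
          rw [this, Subgroup.orderOf_coe]
          exact Nat.Coprime.coprime_dvd_left (orderOf_dvd_natCard a) hco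
      have hxN : x⁻¹ ∈ N := S.mem_normalizer_of_conj a.2 ha1 (by rwa [inv_inv])
      apply Subtype.ext
      show QuotientGroup.mk x = QuotientGroup.mk 1
      rw [QuotientGroup.eq, mul_one]
      exact hxN
  rw [← Finset.add_sum_erase _ _ (Finset.mem_univ (1 : A)), Finset.sum_congr rfl hone,
    Finset.sum_const, Finset.card_erase_of_mem (Finset.mem_univ _), Finset.card_univ, smul_eq_mul,
    mul_one] at hB
  have h1 : Fintype.card (MulAction.fixedBy (G ⧸ N) (1 : A)) = N.index := by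
    rw [← Nat.card_eq_fintype_card, Subgroup.index,
      show MulAction.fixedBy (G ⧸ N) (1 : A) = Set.univ from Set.eq_univ_of_forall fun q => one_smul A q, Nat.card_univ]
  rw [h1, ← Nat.card_eq_fintype_card (α := A)] at hB
  refine ⟨(Fintype.card (Quotient (MulAction.orbitRel A (G ⧸ N))) : ℤ) - 1, ?_⟩
  have h5 := S.hn
  have hB' : (N.index : ℤ) + ((Nat.card A : ℤ) - 1) =
      (Fintype.card (Quotient (MulAction.orbitRel A (G ⧸ N))) : ℤ) * Nat.card A := by
    rw [show ((Nat.card A : ℤ) - 1) = ((Nat.card A - 1 : ℕ) : ℤ) by omega]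
    exact_mod_cast hB
  linear_combination hB'

variable [Fintype G]

open scoped Classical in
/-- The elements conjugate to a nontrivial element of `A`. -/
noncomputable def supp (A : Subgroup G) : Finset G :=
  Finset.univ.filter fun g => g ≠ 1 ∧ ∃ x : G, x⁻¹ * g * x ∈ A

theorem mem_supp {g : G} : g ∈ supp A ↔ g ≠ 1 ∧ ∃ x : G, x⁻¹ * g * x ∈ A := by
  classical
  simp [supp]

open scoped Classical in
/-- A sum over the conjugates of the nontrivial elements of `A`. -/
theorem sum_supp (S : Sys A e) [Fintype A] {R : Type*} [CommSemiring R] (F : G → R)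
    (hF : ∀ g x : G, F (x * g * x⁻¹) = F g) :
    ((Nat.card A * e : ℕ) : R) * ∑ g ∈ supp A, F g =
      (Nat.card G : R) * ∑ a ∈ (Finset.univ : Finset A).erase 1, F a := by
  set T : Finset (G × A) := (Finset.univ : Finset G) ×ˢ ((Finset.univ : Finset A).erase 1) with hT
  have hmaps : ∀ p ∈ T, p.1 * (p.2 : G) * p.1⁻¹ ∈ supp A := fun p hp => by
    refine mem_supp.2 ⟨fun h => (Finset.mem_erase.1 (Finset.mem_product.1 hp).2).1
      (Subtype.ext (conj_eq_one_iff.1 h)), p.1, ?_⟩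
    rw [show p.1⁻¹ * (p.1 * (p.2 : G) * p.1⁻¹) * p.1 = p.2 by group]
    exact p.2.2
  have h1 : ∑ p ∈ T, F (p.1 * (p.2 : G) * p.1⁻¹) =
      (Nat.card G : R) * ∑ a ∈ (Finset.univ : Finset A).erase 1, F a := by
    rw [hT, Finset.sum_product]
    simp only
    rw [Finset.sum_congr rfl (g := fun _ => ∑ a ∈ (Finset.univ : Finset A).erase 1, F a)
      fun x _ => Finset.sum_congr rfl fun a _ => hF a x,
      Finset.sum_const, Finset.card_univ, nsmul_eq_mul, Nat.card_eq_fintype_card]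
  rw [← h1, ← Finset.sum_fiberwise_of_maps_to hmaps, Finset.mul_sum]
  refine Finset.sum_congr rfl fun g hg => ?_
  rw [Finset.sum_congr rfl (g := fun _ => F g) fun p hp => by rw [(Finset.mem_filter.1 hp).2],
    Finset.sum_const, nsmul_eq_mul]
  congr 2
  obtain ⟨hg1, x₀, hx₀⟩ := mem_supp.1 hg
  haveI : Fintype (normalizer (A : Set G)) := Fintype.ofFinite _
  rw [← S.card_normalizer, Nat.card_eq_fintype_card, ← Finset.card_univ]
  refine Finset.card_bij (fun (k : normalizer (A : Set G)) _ =>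
    ((x₀ * k, ⟨(k : G)⁻¹ * (x₀⁻¹ * g * x₀) * k, by
      simpa using S.conj_mem (inv_mem k.2) hx₀⟩) : G × A)) (fun k _ => ?_) (fun k _ k' _ h => ?_)
    (fun p hp => ?_)
  · refine Finset.mem_filter.2 ⟨Finset.mem_product.2 ⟨Finset.mem_univ _,
      Finset.mem_erase.2 ⟨fun h => hg1 ?_, Finset.mem_univ _⟩⟩, by group⟩
    have h' := congrArg Subtype.val h
    simp only [OneMemClass.coe_one] at h'
    calc g = x₀ * (k : G) * ((k : G)⁻¹ * (x₀⁻¹ * g * x₀) * k) * (x₀ * (k : G))⁻¹ := by group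
      _ = 1 := by rw [h']; group
  · exact Subtype.ext (mul_left_cancel (Prod.ext_iff.1 h).1)
  · obtain ⟨x, a⟩ := p
    obtain ⟨hpT, hpg⟩ := Finset.mem_filter.1 hp
    have ha1 : (a : G) ≠ 1 := fun h =>
      (Finset.mem_erase.1 (Finset.mem_product.1 hpT).2).1 (Subtype.ext h)
    simp only at hpg
    have hk : x₀⁻¹ * x ∈ normalizer (A : Set G) := by
      refine S.mem_normalizer_of_conj a.2 ha1 ?_
      rw [show x₀⁻¹ * x * (a : G) * (x₀⁻¹ * x)⁻¹ = x₀⁻¹ * (x * a * x⁻¹) * x₀ by group, hpg]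
      exact hx₀
    refine ⟨⟨x₀⁻¹ * x, hk⟩, Finset.mem_univ _, Prod.ext (by simp) (Subtype.ext ?_)⟩
    show (x₀⁻¹ * x)⁻¹ * (x₀⁻¹ * g * x₀) * (x₀⁻¹ * x) = a
    rw [← hpg]; group

end Sys

end Cfsg.Lib.SuzSystem
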