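import Cfsg.Agent.SuzSystem.Table

/-!
# The characters outside the three families, and their degrees
-/

set_option autoImplicit false
set_option linter.unusedSectionVars false
set_option linter.style.haveILetI false

namespace Cfsg.Lib.SuzSystem

open scoped ComplexConjugate
open Cfsg.Lib.Chars Subgroup

universe u

variable {G : Type u} [Group G] [Fintype G]

/-- The characters other than the trivial one, `χ₁` and the three families. -/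
noncomputable def restSet {A₁ A₂ A₃ : Subgroup G} (F₁ : Fam A₁ 2) (F₂ : Fam A₂ 4) (F₃ : Fam A₃ 4)
    (χ₁ : Cfsg.IrrCharacter G) : Finset (Cfsg.IrrCharacter G) :=
  letI := Classical.decEq (Cfsg.IrrCharacter G)
  (({triv G, χ₁} ∪ F₁.X) ∪ F₂.X ∪ F₃.X)ᶜ

namespace Triple

variable {A₁ A₂ A₃ : Subgroup G}

theorem decomp (T : Triple A₁ A₂ A₃) {F₁ : Fam A₁ 2} (F₂ : Fam A₂ 4) (F₃ : Fam A₃ 4)
    {χ₁ : Cfsg.IrrCharacter G} {c : ℤ} {w : G} (H : First F₁ χ₁ c w)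
    {R : Type*} [CommRing R] (f : Cfsg.IrrCharacter G → R) (w₁ w₂ w₃ : R)
    (h₁ : ∀ χ ∈ F₁.X, f χ = w₁) (h₂ : ∀ χ ∈ F₂.X, f χ = w₂) (h₃ : ∀ χ ∈ F₃.X, f χ = w₃) :
    ∑ χ : Cfsg.IrrCharacter G, f χ =
      f (triv G) + f χ₁ + F₁.X.card * w₁ + F₂.X.card * w₂ + F₃.X.card * w₃ +
        ∑ χ ∈ restSet F₁ F₂ F₃ χ₁, f χ := by
  classical
  have d12 : Disjoint F₁.X F₂.X := Finset.disjoint_left.2 fun _ h => Fam.disjoint T.S₁ T.S₂ T.n₁₂ F₁ F₂ h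
  have d13 : Disjoint F₁.X F₃.X := Finset.disjoint_left.2 fun _ h => Fam.disjoint T.S₁ T.S₃ T.n₁₃ F₁ F₃ h
  have d23 : Disjoint F₂.X F₃.X := Finset.disjoint_left.2 fun _ h => Fam.disjoint T.S₂ T.S₃ T.n₂₃ F₂ F₃ h
  have hp : ∀ {A : Subgroup G} {e : ℕ} (F : Fam A e), χ₁ ∉ F.X →
      Disjoint ({triv G, χ₁} : Finset (Cfsg.IrrCharacter G)) F.X := fun F h => by
    refine Finset.disjoint_left.2 fun χ hχ => ?_
    rw [Finset.mem_insert, Finset.mem_singleton] at hχ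
    rcases hχ with rfl | rfl
    · exact F.triv_not_mem
    · exact h
  have e1 := hp F₁ H.notX
  have e2 := hp F₂ (H.notX_of_zero T F₂)
  have e3 := hp F₃ (H.notX_of_zero T.swap F₃)
  rw [← Finset.sum_add_sum_compl ((({triv G, χ₁} ∪ F₁.X) ∪ F₂.X) ∪ F₃.X),
    Finset.sum_union (Finset.disjoint_union_left.2 ⟨Finset.disjoint_union_left.2 ⟨e3, d13⟩, d23⟩),
    Finset.sum_union (Finset.disjoint_union_left.2 ⟨e2, d12⟩), Finset.sum_union e1,
    Finset.sum_pair H.ne.symm, Finset.sum_congr rfl h₁, Finset.sum_congr rfl h₂,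
    Finset.sum_congr rfl h₃]
  simp only [Finset.sum_const, nsmul_eq_mul]
  congr 1
  refine Finset.sum_congr ?_ fun _ _ => rfl
  ext χ
  simp [restSet]

/-- The columns of the three subgroups on the characters outside the families. -/
structure Others (F₁ : Fam A₁ 2) (F₂ : Fam A₂ 4) (F₃ : Fam A₃ 4) (χ₁ W W' : Cfsg.IrrCharacter G) : Prop where
  hW : W ∈ restSet F₁ F₂ F₃ χ₁
  hW' : W' ∈ restSet F₁ F₂ F₃ χ₁
  hne : W ≠ W'
  hσ : F₂.cv W = 1 ∨ F₂.cv W = -1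
  hσ' : F₂.cv W' = 1 ∨ F₂.cv W' = -1
  zero₁ : ∀ χ ∈ restSet F₁ F₂ F₃ χ₁, F₁.cv χ = 0
  zero₂ : ∀ χ ∈ restSet F₁ F₂ F₃ χ₁, χ ≠ W → χ ≠ W' → F₂.cv χ = 0
  anti : ∀ χ ∈ restSet F₁ F₂ F₃ χ₁, F₃.cv χ = -F₂.cv χ
  s₂ : F₂.s = 1 ∨ F₂.s = -1
  s₃ : F₃.s = 1 ∨ F₃.s = -1
  p₂ : ∀ χ ∈ F₃.X, F₂.cv χ = 0
  p₃ : ∀ χ ∈ F₂.X, F₃.cv χ = 0

theorem exists_others (T : Triple A₁ A₂ A₃) {F₁ : Fam A₁ 2} (F₂ : Fam A₂ 4) (F₃ : Fam A₃ 4)
    {χ₁ : Cfsg.IrrCharacter G} {c : ℤ} {w : G} (H : First F₁ χ₁ c w) :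
    ∃ W W', Others F₁ F₂ F₃ χ₁ W W' := by
  classical
  obtain ⟨hu, hv⟩ := H.meet T F₂ F₃
  obtain ⟨hu', hv'⟩ := H.meet T.swap F₃ F₂
  obtain ⟨μ₂, hμ₂⟩ := Finset.card_pos.1 F₂.card_pos
  obtain ⟨μ₃, hμ₃⟩ := Finset.card_pos.1 F₃.card_pos
  have hc2 : c * c = 1 := by rcases H.hc with rfl | rfl <;> norm_num
  set p := F₂.cv μ₃ with hp
  set q := F₃.cv μ₂ with hq
  have hpX : ∀ χ ∈ F₃.X, F₂.cv χ = p := fun χ h => Fam.cv_eq T.S₂ T.S₃ T.n₂₃ F₂ F₃ h hμ₃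
  have hqX : ∀ χ ∈ F₂.X, F₃.cv χ = q := fun χ h => Fam.cv_eq T.S₃ T.S₂ T.n₂₃.symm F₃ F₂ h hμ₂
  have hb2 := F₂.budget
  rw [T.decomp F₂ F₃ H (fun χ => F₂.cv χ * F₂.cv χ) 0 0 (p * p)
    (fun χ h => by simp only [hv χ h, mul_zero]) (fun χ h => by simp only [F₂.zero χ h, mul_zero])
    (fun χ h => by simp only [hpX χ h]), F₂.cv_triv, hu] at hb2
  have hb3 := F₃.budget
  rw [T.decomp F₂ F₃ H (fun χ => F₃.cv χ * F₃.cv χ) 0 (q * q) 0
    (fun χ h => by simp only [hv' χ h, mul_zero]) (fun χ h => by simp only [hqX χ h])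
    (fun χ h => by simp only [F₃.zero χ h, mul_zero]), F₃.cv_triv, hu'] at hb3
  have hcross := Fam.cross T.S₂ T.S₃ T.n₂₃ F₂ F₃ hμ₂ hμ₃
  rw [T.decomp F₂ F₃ H (fun χ => F₂.cv χ * F₃.cv χ) 0 0 0
    (fun χ h => by simp only [hv χ h, zero_mul]) (fun χ h => by simp only [F₂.zero χ h, zero_mul])
    (fun χ h => by simp only [F₃.zero χ h, mul_zero]), F₂.cv_triv, F₃.cv_triv, hu, hu', ← hp, ← hq]
    at hcross
  simp only [neg_mul, mul_neg, neg_neg, hc2, mul_zero, add_zero, mul_one] at hb2 hb3 hcross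
  have hR2 : 0 ≤ ∑ χ ∈ restSet F₁ F₂ F₃ χ₁, F₂.cv χ * F₂.cv χ :=
    Finset.sum_nonneg fun χ _ => mul_self_nonneg _
  have hR3 : 0 ≤ ∑ χ ∈ restSet F₁ F₂ F₃ χ₁, F₃.cv χ * F₃.cv χ :=
    Finset.sum_nonneg fun χ _ => mul_self_nonneg _
  have hd2 := F₂.del_nonneg
  have hd3 := F₃.del_nonneg
  have h22 : (2 : ℤ) ≤ F₂.X.card := by exact_mod_cast F₂.two
  have h32 : (2 : ℤ) ≤ F₃.X.card := by exact_mod_cast F₃.two
  push_cast at hb2 hb3
  -- when a family meets another column, that column is full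
  have hfull : ∀ {z Q S D : ℤ}, z ≠ 0 → 2 ≤ Q → 0 ≤ S → 0 ≤ D →
      Q * (z * z) + S + D = 2 → Q = 2 ∧ (z = 1 ∨ z = -1) ∧ S = 0 ∧ D = 0 := by
    intro z Q S D hz hQ hS hD h
    have hzz : 1 ≤ z * z := Int.lt_iff_add_one_le.1 (mul_self_pos.2 hz)
    have h1 : Q * 1 ≤ Q * (z * z) := mul_le_mul_of_nonneg_left hzz (by omega)
    have h2 : 2 * (z * z) ≤ Q * (z * z) := mul_le_mul_of_nonneg_right hQ (by omega)
    exact ⟨by linarith, Int.eq_one_or_neg_one_of_mul_eq_one (by linarith), by linarith, by linarith⟩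
  have hn2 := F₂.card
  have hn3 := F₃.card
  have hne23 := T.ne_two_three
  have habsurd : ∀ {z : ℤ} {A : Subgroup G} (F : Fam A 4), z ≠ 0 → F.X.card ≠ 0 → F.del = 0 →
      z = 1 ∨ z = -1 → z * F.s ≠ -2 := by
    intro z A F _ _ hd hz hzs
    have hs : F.s = 1 ∨ F.s = -1 :=
      Int.eq_one_or_neg_one_of_mul_eq_one (by rw [F.sq, hd, mul_zero, zero_add])
    rcases hz with rfl | rfl <;> rcases hs with h | h <;> rw [h] at hzs <;> omega
  have hp0 : p = 0 := by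
    by_contra hp0
    obtain ⟨hQ, hpp, hS, hD⟩ := hfull hp0 h32 hR2 hd2 (by linarith)
    have hz := (Finset.sum_eq_zero_iff_of_nonneg fun χ _ => mul_self_nonneg (F₂.cv χ)).1 hS
    rw [Finset.sum_eq_zero (s := restSet F₁ F₂ F₃ χ₁) fun χ hχ => by
      rw [mul_self_eq_zero.1 (hz χ hχ), zero_mul]] at hcross
    have hq0 : q = 0 := by
      by_contra hq0
      obtain ⟨hQ', -, -, -⟩ := hfull hq0 h22 hR3 hd3 (by linarith)
      refine hne23 ?_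
      rw [← hn2, ← hn3]
      push_cast
      linarith
    rw [hq0, zero_mul, add_zero] at hcross
    -- the other sum has an odd square
    have hs3 : p * F₃.s = -2 := by linarith
    have hsq := F₃.sq
    rcases hpp with h | h <;> rw [h] at hs3
    · rw [show F₃.s = -2 by linarith] at hsq
      rw [hQ] at hsq
      omega
    · rw [show F₃.s = 2 by linarith] at hsq
      rw [hQ] at hsq
      omega
  have hq0 : q = 0 := by
    by_contra hq0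
    obtain ⟨hQ, hqq, hS, hD⟩ := hfull hq0 h22 hR3 hd3 (by linarith)
    have hz := (Finset.sum_eq_zero_iff_of_nonneg fun χ _ => mul_self_nonneg (F₃.cv χ)).1 hS
    rw [Finset.sum_eq_zero (s := restSet F₁ F₂ F₃ χ₁) fun χ hχ => by
      rw [mul_self_eq_zero.1 (hz χ hχ), mul_zero], hp0, zero_mul] at hcross
    have hs2 : q * F₂.s = -2 := by linarith
    have hsq := F₂.sq
    rcases hqq with h | h <;> rw [h] at hs2
    · rw [show F₂.s = -2 by linarith] at hsq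
      rw [hQ] at hsq
      omega
    · rw [show F₂.s = 2 by linarith] at hsq
      rw [hQ] at hsq
      omega
  rw [hp0, hq0, zero_mul, zero_mul, add_zero, add_zero] at hcross
  rw [hp0, zero_mul, mul_zero] at hb2
  rw [hq0, zero_mul, mul_zero] at hb3
  set R := restSet F₁ F₂ F₃ χ₁ with hR
  have hexp : ∑ χ ∈ R, (F₂.cv χ + F₃.cv χ) * (F₂.cv χ + F₃.cv χ) =
      ∑ χ ∈ R, F₂.cv χ * F₂.cv χ + 2 * ∑ χ ∈ R, F₂.cv χ * F₃.cv χ + ∑ χ ∈ R, F₃.cv χ * F₃.cv χ := by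
    rw [Finset.mul_sum, ← Finset.sum_add_distrib, ← Finset.sum_add_distrib]
    exact Finset.sum_congr rfl fun χ _ => by ring
  have hnn : 0 ≤ ∑ χ ∈ R, (F₂.cv χ + F₃.cv χ) * (F₂.cv χ + F₃.cv χ) :=
    Finset.sum_nonneg fun χ _ => mul_self_nonneg _
  have hsum0 : ∑ χ ∈ R, (F₂.cv χ + F₃.cv χ) * (F₂.cv χ + F₃.cv χ) = 0 := by linarith
  have hanti : ∀ χ ∈ R, F₃.cv χ = -F₂.cv χ := fun χ hχ => by
    have := mul_self_eq_zero.1
      ((Finset.sum_eq_zero_iff_of_nonneg fun χ _ => mul_self_nonneg _).1 hsum0 χ hχ)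
    linarith
  have htwo : ∑ χ ∈ R, F₂.cv χ * F₂.cv χ = 2 := by linarith
  have hdel2 : F₂.del = 0 := by linarith
  have hdel3 : F₃.del = 0 := by linarith
  -- the two characters
  obtain ⟨W, hW, hWne⟩ : ∃ χ ∈ R, F₂.cv χ * F₂.cv χ ≠ 0 := by
    by_contra h
    push Not at h
    rw [Finset.sum_eq_zero h] at htwo
    omega
  have hWle : F₂.cv W * F₂.cv W ≤ 2 :=
    htwo ▸ Finset.single_le_sum (fun χ _ => mul_self_nonneg (F₂.cv χ)) hW
  have hW1 : F₂.cv W = 1 ∨ F₂.cv W = -1 := by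
    have hb : -1 ≤ F₂.cv W ∧ F₂.cv W ≤ 1 := by constructor <;> nlinarith
    have : F₂.cv W ≠ 0 := fun h => hWne (by rw [h, mul_zero])
    omega
  have hWsq : F₂.cv W * F₂.cv W = 1 := by rcases hW1 with h | h <;> rw [h] <;> norm_num
  rw [← Finset.add_sum_erase _ _ hW, hWsq] at htwo
  obtain ⟨W', hW', hW'ne⟩ : ∃ χ ∈ R.erase W, F₂.cv χ * F₂.cv χ ≠ 0 := by
    by_contra h
    push Not at h
    rw [Finset.sum_eq_zero h] at htwo
    omega
  rw [← Finset.add_sum_erase _ _ hW'] at htwo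
  have hrest : 0 ≤ ∑ χ ∈ (R.erase W).erase W', F₂.cv χ * F₂.cv χ :=
    Finset.sum_nonneg fun χ _ => mul_self_nonneg _
  have hW'pos : 0 ≤ F₂.cv W' * F₂.cv W' := mul_self_nonneg _
  have hW'1 : 1 ≤ F₂.cv W' * F₂.cv W' :=
    Int.lt_iff_add_one_le.1 (lt_of_le_of_ne hW'pos (Ne.symm hW'ne))
  have hrest0 : ∑ χ ∈ (R.erase W).erase W', F₂.cv χ * F₂.cv χ = 0 := by linarith
  have hW'sq : F₂.cv W' * F₂.cv W' = 1 := by linarith
  refine ⟨W, W', hW, Finset.mem_of_mem_erase hW', (Finset.ne_of_mem_erase hW').symm, hW1,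
    Int.eq_one_or_neg_one_of_mul_eq_one hW'sq, fun χ hχ => ?_, fun χ hχ h1 h2 => ?_, hanti,
    Int.eq_one_or_neg_one_of_mul_eq_one (by rw [F₂.sq, hdel2, mul_zero, zero_add]),
    Int.eq_one_or_neg_one_of_mul_eq_one (by rw [F₃.sq, hdel3, mul_zero, zero_add]),
    fun χ h => (hpX χ h).trans hp0, fun χ h => (hqX χ h).trans hq0⟩
  · have hmem := hχ
    simp only [hR, restSet, Finset.mem_compl, Finset.mem_union, Finset.mem_insert,
      Finset.mem_singleton, not_or] at hmem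
    exact H.zero χ hmem.1.1.1.1 hmem.1.1.1.2
  · exact mul_self_eq_zero.1 ((Finset.sum_eq_zero_iff_of_nonneg fun χ _ => mul_self_nonneg (F₂.cv χ)).1
      hrest0 χ (Finset.mem_erase.2 ⟨h2, Finset.mem_erase.2 ⟨h1, hχ⟩⟩))

end Triple

end Cfsg.Lib.SuzSystem
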