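import Cfsg.Agent.SuzSystem.Family
import Cfsg.Agent.Chars.Sums

/-!
# Involutions inverting a self-centralising subgroup
-/

set_option autoImplicit false
set_option linter.unusedSectionVars false
set_option linter.style.haveILetI false

namespace Cfsg.Lib.SuzSystem

open scoped ComplexConjugate
open Cfsg.Lib.Chars Subgroup

universe u

variable {G : Type u} [Group G] [Fintype G] {A : Subgroup G} {e : ℕ}

open scoped Classical in
/-- The involutions. -/
noncomputable def invols (G : Type u) [Group G] [Fintype G] : Finset G :=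
  Finset.univ.filter fun y => orderOf y = 2

theorem mem_invols {y : G} : y ∈ invols G ↔ orderOf y = 2 := by
  classical
  simp [invols]

theorem card_sqrt_one : Nat.card {y : G // y * y = 1} = (invols G).card + 1 := by
  classical
  rw [Nat.card_eq_fintype_card, Fintype.card_subtype,
    ← Finset.card_insert_of_notMem (show (1 : G) ∉ invols G from fun h => by
      rw [mem_invols, orderOf_one] at h; norm_num at h)]
  congr 1
  ext y
  rw [Finset.mem_filter, Finset.mem_insert, mem_invols]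
  constructor
  · rintro ⟨-, h⟩
    rcases eq_or_ne y 1 with h1 | h1
    · exact Or.inl h1
    · exact Or.inr (orderOf_eq_prime (by rw [pow_two, h]) h1)
  · rintro (rfl | h)
    · simp
    · refine ⟨Finset.mem_univ _, ?_⟩
      rw [← pow_two, ← h]
      exact pow_orderOf_eq_one y

/-- An element of the normaliser that inverts `A`. -/
structure Inverter (A : Subgroup G) (w : G) : Prop where
  mem : w ∈ normalizer (A : Set G)
  not_mem : w ∉ A
  sq : w * w = 1
  inv : ∀ a ∈ A, w * a * w⁻¹ = a⁻¹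

theorem Sys.exists_inv (S : Sys A e) : ∃ w, Inverter A w := by
  obtain ⟨w, hw, hwA, hww⟩ := S.exists_inverter
  exact ⟨w, hw, hwA, (S.invert hw hwA hww).1, (S.invert hw hwA hww).2⟩

namespace Inverter

variable {w : G} (W : Inverter A w)
include W

theorem self_inv : w⁻¹ = w := inv_eq_of_mul_eq_one_right W.sq

theorem mul_left {b : G} (hb : b ∈ A) : w * b = b⁻¹ * w := by
  calc w * b = w * b * w⁻¹ * w := by group
    _ = b⁻¹ * w := by rw [W.inv b hb]

theorem order (_hS : Sys A e) {b : G} (hb : b ∈ A) : orderOf (b * w) = 2 := by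
  refine orderOf_eq_prime ?_ fun h => W.not_mem ?_
  · rw [pow_two]
    calc b * w * (b * w) = b * (w * b) * w := by group
      _ = b * (b⁻¹ * w) * w := by rw [W.mul_left hb]
      _ = w * w := by group
      _ = 1 := W.sq
  · rw [eq_inv_of_mul_eq_one_right h]
    exact inv_mem hb

theorem isConj (S : Sys A e) {b : G} (hb : b ∈ A) : IsConj w (b * w) := by
  obtain ⟨r, hr, hrr⟩ := S.exists_half hb
  refine isConj_iff.2 ⟨r, ?_⟩
  calc r * w * r⁻¹ = r * (w * r⁻¹) := by group
    _ = r * (r⁻¹⁻¹ * w) := by rw [W.mul_left (inv_mem hr)]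
    _ = b * w := by rw [inv_inv, ← hrr]; group

theorem pair_mul {a b : G} (ha : a ∈ A) : b * w * a = b * a⁻¹ * w := by
  calc b * w * a = b * (w * a) := by group
    _ = b * (a⁻¹ * w) := by rw [W.mul_left ha]
    _ = b * a⁻¹ * w := by group

theorem mul_self_pair (S : Sys A e) {a b : G} (hb : b ∈ A) : b * w * (b * w * a) = a := by
  have h := pow_orderOf_eq_one (b * w)
  rw [W.order S hb, pow_two] at h
  rw [← mul_assoc, h, one_mul]

/-- The value at an inverting involution is small. -/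
theorem xbound (S : Sys A e) (F : Fam A e) {χ : Cfsg.IrrCharacter G} (hχ : χ ∉ F.X) :
    ∃ x : ℤ, (χ : G → ℂ) w = x ∧
      (Nat.card A : ℤ) * |x| ≤ dg χ + ((Nat.card A : ℤ) - 1) * F.cv χ := by
  classical
  have hwinv := W.self_inv
  let H : Subgroup G :=
    { carrier := {g | g ∈ A ∨ g * w ∈ A}
      one_mem' := Or.inl (one_mem A)
      mul_mem' := by
        rintro g k (hg | hg) (hk | hk)
        · exact Or.inl (mul_mem hg hk)
        · exact Or.inr (by rw [mul_assoc]; exact mul_mem hg hk)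
        · refine Or.inr ?_
          rw [show g * k * w = g * w * (w * k * w⁻¹) by
            rw [hwinv, show g * w * (w * k * w) = g * (w * w) * (k * w) by group, W.sq]; group]
          exact mul_mem hg (S.conj_mem W.mem hk)
        · refine Or.inl ?_
          rw [show g * k = g * w * (w * (k * w) * w⁻¹) by
            rw [hwinv, show g * w * (w * (k * w) * w) = g * (w * w) * k * (w * w) by group, W.sq]; group]
          exact mul_mem hg (S.conj_mem W.mem hk)
      inv_mem' := by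
        rintro g (hg | hg)
        · exact Or.inl (inv_mem hg)
        · refine Or.inr ?_
          rw [show g⁻¹ * w = w * (g * w)⁻¹ * w⁻¹ by
            rw [mul_inv_rev, show w * (w⁻¹ * g⁻¹) * w⁻¹ = g⁻¹ * w⁻¹ by group, hwinv]]
          exact S.conj_mem W.mem (inv_mem hg) }
  have hnot : ∀ a ∈ A, a * w ∉ A := fun a ha h => W.not_mem ((mul_mem_cancel_left ha).1 h)
  have hout : ∀ g : H, (g : G) ∉ A → (g : G) * w ∈ A := fun g hg => g.2.resolve_left hg
  let sgn : H →* ℂˣ :=
    { toFun := fun g => if (g : G) ∈ A then 1 else -1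
      map_one' := by simp [one_mem]
      map_mul' := by
        intro g k
        by_cases hg : (g : G) ∈ A <;> by_cases hk : (k : G) ∈ A
        · simp [hg, hk, mul_mem hg hk]
        · have : (g : G) * k ∉ A := fun h => hk ((mul_mem_cancel_left hg).1 h)
          simp [hg, hk, this]
        · have : (g : G) * k ∉ A := fun h => hg ((mul_mem_cancel_right hk).1 h)
          simp [hg, hk, this]
        · have : (g : G) * k ∈ A := by
            rw [show (g : G) * k = g * w * (w * (k * w) * w⁻¹) by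
              rw [hwinv, show (g : G) * w * (w * ((k : G) * w) * w) = g * (w * w) * k * (w * w) by group,
                W.sq]; group]
            exact mul_mem (hout g hg) (S.conj_mem W.mem (hout k hk))
          simp [hg, hk, this] }
  haveI : Fintype A := Fintype.ofFinite _
  haveI : Fintype H := Fintype.ofFinite _
  have hwA : ∀ b ∈ A, b * w ∈ H := fun b hb => Or.inr (by rw [mul_assoc, W.sq, mul_one]; exact hb)
  let f : A ⊕ A → H := fun s => s.elim (fun a : A => ⟨(a : G), Or.inl a.2⟩) (fun a : A => ⟨(a : G) * w, hwA a a.2⟩)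
  have hf : Function.Bijective f := by
    constructor
    · rintro (a | a) (b | b) h <;> have h' := congrArg Subtype.val h <;>
        simp only [f, Sum.elim_inl, Sum.elim_inr] at h'
      · exact congrArg Sum.inl (Subtype.ext h')
      · exact absurd (h' ▸ a.2) (hnot b b.2)
      · exact absurd (h'.symm ▸ b.2) (hnot a a.2)
      · exact congrArg Sum.inr (Subtype.ext (mul_right_cancel h'))
    · rintro ⟨g, hg | hg⟩
      · exact ⟨Sum.inl ⟨g, hg⟩, rfl⟩
      · refine ⟨Sum.inr ⟨g * w, hg⟩, Subtype.ext ?_⟩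
        show g * w * w = g
        rw [mul_assoc, W.sq, mul_one]
  have hcardH : (Nat.card H : ℂ) = 2 * Nat.card A := by
    rw [← Nat.card_eq_of_bijective f hf, Nat.card_sum]
    push_cast; ring
  have hsumA : ∑ a : A, (χ : G → ℂ) a = (dg χ : ℂ) + ((Nat.card A : ℂ) - 1) * F.cv χ := by
    rw [← Finset.add_sum_erase Finset.univ _ (Finset.mem_univ (1 : A)),
      Finset.sum_congr rfl fun (a : A) ha =>
        F.const χ hχ a a.2 (fun h => (Finset.mem_erase.1 ha).1 (Subtype.ext h)),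
      Finset.sum_const, Finset.card_erase_of_mem (Finset.mem_univ _), Finset.card_univ, nsmul_eq_mul,
      Subgroup.coe_one, apply_one, ← Nat.card_eq_fintype_card, Nat.cast_sub Nat.card_pos, Nat.cast_one]
  have hw : ∀ a : A, (χ : G → ℂ) ((a : G) * w) = (χ : G → ℂ) w := fun a =>
    (classFunction_eq_of_isConj (isClassFunction_irr χ) (W.isConj S a.2)).symm
  have hres := IsCharacter.restrict (isCharacter_of_irr χ.2) H
  obtain ⟨p, hp⟩ := classInner_char_nat hres
    (isCharacter_of_irr (isIrrCharacter_linear (1 : H →* ℂˣ)))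
  obtain ⟨q, hq⟩ := classInner_char_nat hres (isCharacter_of_irr (isIrrCharacter_linear sgn))
  have hH0 : (Nat.card H : ℂ) ≠ 0 := by exact_mod_cast Nat.card_pos.ne'
  rw [classInner_def, inv_mul_eq_iff_eq_mul₀ hH0, hcardH,
    ← (Equiv.ofBijective f hf).sum_comp, Fintype.sum_sum_type] at hp hq
  simp only [Equiv.ofBijective_apply] at hp hq
  have hs : ∀ g : H, sgn g = if (g : G) ∈ A then 1 else -1 := fun _ => rfl
  simp only [f, Sum.elim_inl, Sum.elim_inr, MonoidHom.one_apply, Units.val_one, map_one, mul_one,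
    hw, Finset.sum_const, Finset.card_univ, nsmul_eq_mul, ← Nat.card_eq_fintype_card, hsumA] at hp
  simp only [f, hs, Sum.elim_inl, Sum.elim_inr, SetLike.coe_mem, if_true,
    fun a : A => if_neg (hnot a a.2) (α := ℂˣ) (t := (1 : ℂˣ)) (e := (-1 : ℂˣ)),
    Units.val_one, Units.val_neg, map_one, map_neg, mul_one, mul_neg, Finset.sum_neg_distrib,
    hw, Finset.sum_const, Finset.card_univ, nsmul_eq_mul, ← Nat.card_eq_fintype_card, hsumA] at hq
  have hn : (Nat.card A : ℂ) ≠ 0 := by exact_mod_cast Nat.card_pos.ne'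
  refine ⟨(p : ℤ) - q, mul_left_cancel₀ hn (by push_cast; linear_combination (hp - hq) / 2), ?_⟩
  have h1 : ((dg χ + ((Nat.card A : ℤ) - 1) * F.cv χ : ℤ) : ℂ) =
      (((Nat.card A : ℤ) * ((p : ℤ) + q) : ℤ) : ℂ) := by
    push_cast; linear_combination (hp + hq) / 2
  rw [show dg χ + ((Nat.card A : ℤ) - 1) * F.cv χ = (Nat.card A : ℤ) * ((p : ℤ) + q) by exact_mod_cast h1]
  exact mul_le_mul_of_nonneg_left (abs_le.2 ⟨by omega, by omega⟩) (by omega)

end Inverter

open scoped Classical in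
/-- Each conjugate of a nontrivial element of `A` is the product of at least `|A|` pairs of involutions. -/
theorem Sys.le_fibre (S : Sys A e) {g : G} (hg : g ∈ Sys.supp A) :
    Nat.card A ≤ ((invols G ×ˢ invols G).filter fun p => p.1 * p.2 = g).card := by
  obtain ⟨w, W⟩ := S.exists_inv
  obtain ⟨-, x, hx⟩ := Sys.mem_supp.1 hg
  haveI : Fintype A := Fintype.ofFinite _
  rw [Nat.card_eq_fintype_card, ← Finset.card_univ]
  set a := x⁻¹ * g * x with ha
  have hconj : ∀ z : G, orderOf (x * z * x⁻¹) = orderOf z := fun z => (MulAut.conj x).orderOf_eq z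
  refine Finset.card_le_card_of_injOn
    (fun b : A => (x * ((b : G) * w) * x⁻¹, x * ((b : G) * w * a) * x⁻¹)) (fun b _ => ?_) ?_
  · refine Finset.mem_filter.2 ⟨Finset.mem_product.2 ⟨mem_invols.2 ?_, mem_invols.2 ?_⟩, ?_⟩
    · rw [hconj]; exact W.order S b.2
    · rw [hconj, W.pair_mul hx]; exact W.order S (mul_mem b.2 (inv_mem hx))
    · calc x * ((b : G) * w) * x⁻¹ * (x * ((b : G) * w * a) * x⁻¹)
          = x * ((b : G) * w * ((b : G) * w * a)) * x⁻¹ := by group
        _ = g := by rw [W.mul_self_pair S b.2, ha]; group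
  · intro b _ b' _ h
    have h1 := (Prod.ext_iff.1 h).1
    exact Subtype.ext (mul_right_cancel (mul_left_cancel (mul_right_cancel h1)))

theorem Sys.card_supp (S : Sys A e) :
    (Nat.card A * e : ℕ) * (Sys.supp A).card = Nat.card G * (Nat.card A - 1) := by
  classical
  haveI : Fintype A := Fintype.ofFinite _
  have h := S.sum_supp (fun _ : G => (1 : ℕ)) (fun _ _ => rfl)
  simp only [Finset.sum_const, smul_eq_mul, mul_one, Finset.card_erase_of_mem (Finset.mem_univ _),
    Finset.card_univ, Nat.cast_id, ← Nat.card_eq_fintype_card] at h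
  exact h

namespace Fam

variable {A : Subgroup G} {e : ℕ} (F : Fam A e)

/-- Orthogonality of a column outside the family with a column in it. -/
theorem column (S : Sys A e) {g : G} (hg : g ∉ Sys.supp A) {μ : Cfsg.IrrCharacter G} (hμ : μ ∈ F.X) :
    (∑ χ : Cfsg.IrrCharacter G, (χ : G → ℂ) g * F.cv χ) + (μ : G → ℂ) g * F.s = 0 := by
  classical
  obtain ⟨a, ha, ha1⟩ := S.exists_ne
  rw [← F.split_conj (fun χ => (χ : G → ℂ) g) _ (fun χ hχ => F.agree χ hχ μ hμ g hg) ha ha1,
    second_orthogonality, if_neg]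
  intro h
  obtain ⟨x, hx⟩ := isConj_iff.1 h
  refine hg (Sys.mem_supp.2 ⟨fun e' => ?_, x⁻¹, ?_⟩)
  · rw [e', mul_one, mul_inv_cancel] at hx
    exact ha1 hx.symm
  · rw [inv_inv, hx]; exact ha

theorem deg_relation (S : Sys A e) {μ : Cfsg.IrrCharacter G} (hμ : μ ∈ F.X) :
    (∑ χ : Cfsg.IrrCharacter G, dg χ * F.cv χ) + dg μ * F.s = 0 := by
  have h := F.column S S.not_supp_one hμ
  simp only [apply_one] at h
  exact_mod_cast h

end Fam

/-- The second character that does not vanish on a subgroup of index two in its normaliser. -/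
theorem Fam.exists_second (S : Sys A 2) (F : Fam A 2) :
    ∃ χ₁ : Cfsg.IrrCharacter G, ∃ c : ℤ, χ₁ ∉ F.X ∧ χ₁ ≠ triv G ∧ (c = 1 ∨ c = -1) ∧ F.cv χ₁ = c ∧
      (∀ χ, χ ≠ triv G → χ ≠ χ₁ → F.cv χ = 0) ∧ F.del = 0 ∧ (F.s = 1 ∨ F.s = -1) ∧
      (∀ g, ((χ₁ : G → ℂ) g).im = 0) ∧
      (∀ φ : Cfsg.IrrCharacter G → ℂ, ∑ χ : Cfsg.IrrCharacter G, φ χ * F.cv χ = φ (triv G) + φ χ₁ * c) := by
  classical
  have hb := F.budget
  rw [← Finset.add_sum_erase Finset.univ _ (Finset.mem_univ (triv G)), F.cv_triv] at hb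
  have hd0 : F.del = 0 := by
    by_contra hne
    have h1 := F.del_nonneg
    have hzero : ∑ χ ∈ Finset.univ.erase (triv G), F.cv χ * F.cv χ = 0 := by
      have := Finset.sum_nonneg (s := Finset.univ.erase (triv G)) fun χ _ => mul_self_nonneg (F.cv χ)
      omega
    have hz : ∀ χ, χ ≠ triv G → F.cv χ = 0 := fun χ hχ =>
      mul_self_eq_zero.1 ((Finset.sum_eq_zero_iff_of_nonneg fun χ _ => mul_self_nonneg (F.cv χ)).1 hzero χ
        (Finset.mem_erase.2 ⟨hχ, Finset.mem_univ _⟩))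
    obtain ⟨μ, hμ⟩ := Finset.card_pos.1 F.card_pos
    have h := F.deg_relation S hμ
    rw [Finset.sum_eq_single (triv G) (fun χ _ hχ => by rw [hz χ hχ, mul_zero])
      (fun h => absurd (Finset.mem_univ _) h), dg_triv, F.cv_triv] at h
    have h2 : dg μ * F.s = -1 := by omega
    have h3 : F.s * F.s = 1 := by
      rcases Int.eq_one_or_neg_one_of_mul_eq_neg_one' h2 with ⟨-, h4⟩ | ⟨-, h4⟩ <;> rw [h4] <;> rfl
    have h4 := F.sq
    rw [h3] at h4
    have h5 : (F.X.card : ℤ) * F.del = 0 := by omega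
    rcases mul_eq_zero.1 h5 with h6 | h6
    · have := F.two; omega
    · exact hne h6
  rw [hd0, add_zero] at hb
  have hsum : ∑ χ ∈ Finset.univ.erase (triv G), F.cv χ * F.cv χ = 1 := by omega
  obtain ⟨χ₁, hχ₁, hne⟩ : ∃ χ ∈ Finset.univ.erase (triv G), F.cv χ * F.cv χ ≠ 0 := by
    by_contra h
    push Not at h
    rw [Finset.sum_eq_zero h] at hsum
    omega
  rw [← Finset.add_sum_erase _ _ hχ₁] at hsum
  have hrest : ∑ χ ∈ (Finset.univ.erase (triv G)).erase χ₁, F.cv χ * F.cv χ = 0 := by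
    have := Finset.sum_nonneg (s := (Finset.univ.erase (triv G)).erase χ₁)
      fun χ _ => mul_self_nonneg (F.cv χ)
    have := mul_self_nonneg (F.cv χ₁)
    omega
  have hc : F.cv χ₁ = 1 ∨ F.cv χ₁ = -1 :=
    Int.eq_one_or_neg_one_of_mul_eq_one (by omega : F.cv χ₁ * F.cv χ₁ = 1)
  have hz : ∀ χ, χ ≠ triv G → χ ≠ χ₁ → F.cv χ = 0 := fun χ h1 h2 =>
    mul_self_eq_zero.1 ((Finset.sum_eq_zero_iff_of_nonneg fun χ _ => mul_self_nonneg (F.cv χ)).1 hrest χ
      (Finset.mem_erase.2 ⟨h2, Finset.mem_erase.2 ⟨h1, Finset.mem_univ _⟩⟩))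
  have hX : χ₁ ∉ F.X := fun h => by rw [F.zero χ₁ h] at hc; omega
  have ht : χ₁ ≠ triv G := (Finset.mem_erase.1 hχ₁).1
  refine ⟨χ₁, F.cv χ₁, hX, ht, hc, rfl, hz, hd0, ?_, fun g => ?_, fun φ => ?_⟩
  · exact Int.eq_one_or_neg_one_of_mul_eq_one (by rw [F.sq, hd0, mul_zero, zero_add])
  · let ψ : Cfsg.IrrCharacter G := ⟨fun g => conj ((χ₁ : G → ℂ) g), IsIrrCharacter.conjugate χ₁.2⟩
    obtain ⟨a, ha, ha1⟩ := S.exists_ne
    have hψX : ψ ∉ F.X := fun h => by
      obtain ⟨b, hb, hb1, hbne⟩ := F.vary ψ h (F.cv χ₁ : ℂ)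
      exact hbne (by show conj ((χ₁ : G → ℂ) b) = _; rw [F.const χ₁ hX b hb hb1, map_intCast])
    have hψv : F.cv ψ = F.cv χ₁ := by
      have h1 := F.const ψ hψX a ha ha1
      have h2 : (ψ : G → ℂ) a = conj ((χ₁ : G → ℂ) a) := rfl
      rw [h2, F.const χ₁ hX a ha ha1, map_intCast] at h1
      exact_mod_cast h1.symm
    have hψ : ψ = χ₁ := by
      by_contra hne'
      have hψt : ψ ≠ triv G := fun h => ht (Subtype.ext (funext fun g => by
        have h' : conj ((χ₁ : G → ℂ) g) = (triv G : G → ℂ) g :=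
          congrFun (congrArg Subtype.val h) g
        rw [triv_apply] at h' ⊢
        rw [← Complex.conj_conj ((χ₁ : G → ℂ) g), h', map_one]))
      rw [hz ψ hψt hne'] at hψv
      omega
    exact Complex.conj_eq_iff_im.1 (congrFun (congrArg Subtype.val hψ) g)
  · rw [← Finset.add_sum_erase Finset.univ _ (Finset.mem_univ (triv G)), ← Finset.add_sum_erase _ _ hχ₁,
      Finset.sum_eq_zero (fun χ hχ => by
        rw [hz χ (Finset.mem_erase.1 (Finset.mem_erase.1 hχ).2).1 (Finset.mem_erase.1 hχ).1,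
          Int.cast_zero, mul_zero]), F.cv_triv, Int.cast_one, mul_one, add_zero]

/-- The number of pairs in a class of involutions with a given product in `A`. -/
theorem Fam.pairs_eq (S : Sys A 2) (F : Fam A 2) {χ₁ : Cfsg.IrrCharacter G} {c : ℤ} {μ : Cfsg.IrrCharacter G}
    (hc : c = 1 ∨ c = -1) (hs : F.s = 1 ∨ F.s = -1) (hμ : μ ∈ F.X)
    (hsum : ∀ φ : Cfsg.IrrCharacter G → ℂ,
      ∑ χ : Cfsg.IrrCharacter G, φ χ * F.cv χ = φ (triv G) + φ χ₁ * c)
    {t a : G} (ht : orderOf t = 2) (ha : a ∈ A) (ha1 : a ≠ 1) :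
    (Nat.card {p : G × G // IsConj t p.1 ∧ IsConj t p.2 ∧ p.1 * p.2 = a} : ℂ) *
        ((Nat.card G : ℂ) * (dg χ₁ : ℂ) * (1 + (c : ℂ) * dg χ₁)) =
      (Nat.card {x : G // IsConj t x} : ℂ) ^ 2 * ((c : ℂ) * ((dg χ₁ : ℂ) - (χ₁ : G → ℂ) t) ^ 2) := by
  classical
  have htS : t ∉ Sys.supp A := fun h => by
    obtain ⟨-, x, hx⟩ := Sys.mem_supp.1 h
    have h2 : orderOf (⟨x⁻¹ * t * x, hx⟩ : A) = 2 := by
      rw [← Subgroup.orderOf_coe]
      show orderOf (x⁻¹ * t * x) = 2
      rw [show x⁻¹ * t * x = MulAut.conj x⁻¹ t by simp, (MulAut.conj x⁻¹).orderOf_eq, ht]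
    have := orderOf_dvd_natCard (⟨x⁻¹ * t * x, hx⟩ : A)
    rw [h2] at this
    exact S.odd.not_two_dvd_nat this
  have h := class_mult_formula t t a
  have hsplit := F.split_conj (fun χ => (χ : G → ℂ) t * (χ : G → ℂ) t / (χ : G → ℂ) 1)
    ((μ : G → ℂ) t * (μ : G → ℂ) t / (μ : G → ℂ) 1)
    (fun χ hχ => by rw [F.agree χ hχ μ hμ t htS, F.agree χ hχ μ hμ 1 S.not_supp_one]) ha ha1
  rw [hsum] at hsplit
  rw [show ∑ χ : Cfsg.IrrCharacter G, (χ : G → ℂ) t * (χ : G → ℂ) t * conj ((χ : G → ℂ) a) /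
      (χ : G → ℂ) 1 = ∑ χ : Cfsg.IrrCharacter G,
      (χ : G → ℂ) t * (χ : G → ℂ) t / (χ : G → ℂ) 1 * conj ((χ : G → ℂ) a) from
    Finset.sum_congr rfl fun χ _ => by ring, hsplit, triv_apply, triv_apply, apply_one, apply_one] at h
  have hcol := F.column S htS hμ
  rw [hsum (fun χ => (χ : G → ℂ) t), triv_apply] at hcol
  have hdeg : (1 : ℂ) + (dg χ₁ : ℂ) * c + (dg μ : ℂ) * F.s = 0 := by
    have h' := F.column S S.not_supp_one hμ
    rw [hsum (fun χ => (χ : G → ℂ) 1), triv_apply, apply_one, apply_one] at h'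
    exact h'
  have hc2 : (c : ℂ) * c = 1 := by rcases hc with rfl | rfl <;> norm_num
  have hs2 : (F.s : ℂ) * F.s = 1 := by rcases hs with h' | h' <;> rw [h'] <;> norm_num
  have hd : (dg χ₁ : ℂ) ≠ 0 := by exact_mod_cast (show dg χ₁ ≠ 0 by have := dg_pos χ₁; omega)
  have hf : (dg μ : ℂ) ≠ 0 := by exact_mod_cast (show dg μ ≠ 0 by have := dg_pos μ; omega)
  have hG : (Nat.card G : ℂ) ≠ 0 := by exact_mod_cast Nat.card_pos.ne'
  have hP : 1 + (c : ℂ) * dg χ₁ = -((dg μ : ℂ) * F.s) := by linear_combination hdeg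
  have hY : (μ : G → ℂ) t = -((F.s : ℂ) * (1 + (χ₁ : G → ℂ) t * c)) := by
    linear_combination (F.s : ℂ) * hcol - (μ : G → ℂ) t * hs2
  have he : (μ : G → ℂ) t * (μ : G → ℂ) t / (dg μ : ℂ) * (F.s : ℂ) * (1 + (c : ℂ) * dg χ₁) =
      -(1 + (χ₁ : G → ℂ) t * c) ^ 2 := by
    rw [hY, hP]
    field_simp
    linear_combination (-(1 + (χ₁ : G → ℂ) t * c) ^ 2 * ((F.s : ℂ) * F.s + 1)) * hs2
  rw [h]
  generalize (Nat.card {y : G // IsConj t y} : ℂ) = K
  generalize (χ₁ : G → ℂ) t = x at he ⊢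
  generalize (μ : G → ℂ) t * (μ : G → ℂ) t / (dg μ : ℂ) * (F.s : ℂ) = Y at he ⊢
  field_simp
  linear_combination (K ^ 2 * (dg χ₁ : ℂ)) * he

theorem Fam.one_class [IsSimpleGroup G] (S : Sys A 2) (F : Fam A 2) {χ₁ : Cfsg.IrrCharacter G} {c : ℤ}
    (hX : χ₁ ∉ F.X) (hne : χ₁ ≠ triv G)
    (hc : c = 1 ∨ c = -1) (hcv : F.cv χ₁ = c) (hs : F.s = 1 ∨ F.s = -1)
    (hsum : ∀ φ : Cfsg.IrrCharacter G → ℂ,
      ∑ χ : Cfsg.IrrCharacter G, φ χ * F.cv χ = φ (triv G) + φ χ₁ * c)
    {w : G} (W : Inverter A w) {t : G} (ht : orderOf t = 2) : IsConj w t := by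
  classical
  by_contra hnc
  obtain ⟨a, ha, ha1⟩ := S.exists_ne
  obtain ⟨μ, hμ⟩ := Finset.card_pos.1 F.card_pos
  have h := F.pairs_eq S hc hs hμ hsum ht ha ha1
  have hzero : IsEmpty {p : G × G // IsConj t p.1 ∧ IsConj t p.2 ∧ p.1 * p.2 = a} := by
    refine ⟨fun p => hnc ?_⟩
    obtain ⟨⟨x, y⟩, hx, hy, hxy⟩ := p
    simp only at hx hy hxy
    obtain ⟨g, hg⟩ := isConj_iff.1 hx
    obtain ⟨g', hg'⟩ := isConj_iff.1 hy
    have hx2 : x * x = 1 := by
      rw [← hg, show g * t * g⁻¹ * (g * t * g⁻¹) = g * (t * t) * g⁻¹ by group, ← pow_two, ← ht, pow_orderOf_eq_one]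
      group
    have hy2 : y * y = 1 := by
      rw [← hg', show g' * t * g'⁻¹ * (g' * t * g'⁻¹) = g' * (t * t) * g'⁻¹ by group, ← pow_two,
        ← ht, pow_orderOf_eq_one]
      group
    have hinv : x * a * x⁻¹ = a⁻¹ := by
      rw [← hxy, mul_inv_rev, inv_eq_of_mul_eq_one_right hx2, inv_eq_of_mul_eq_one_right hy2]
      calc x * (x * y) * x = x * x * y * x := by group
        _ = y * x := by rw [hx2, one_mul]
    have hxN : x ∈ normalizer (A : Set G) :=
      S.mem_normalizer_of_conj ha ha1 (by rw [hinv]; exact inv_mem ha)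
    have hxA : x ∉ A := by
      intro hxA
      rw [S.comm hxA ha, mul_inv_cancel_right] at hinv
      have h2 : orderOf (⟨a, ha⟩ : A) ∣ 2 := orderOf_dvd_of_pow_eq_one (Subtype.ext (by
        show a ^ 2 = 1
        rw [pow_two, eq_inv_iff_mul_eq_one.1 hinv]))
      rcases Nat.prime_two.eq_one_or_self_of_dvd _ h2 with h3 | h3
      · exact ha1 (congrArg Subtype.val (orderOf_eq_one_iff.1 h3))
      · exact S.odd.not_two_dvd_nat (h3 ▸ orderOf_dvd_natCard (⟨a, ha⟩ : A))
    have hmem : x * w ∈ A := by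
      have hidx : (A.subgroupOf (normalizer (A : Set G))).index = 2 := S.he
      have := (Subgroup.mul_mem_iff_of_index_two hidx
        (a := (⟨x, hxN⟩ : normalizer (A : Set G))) (b := ⟨w, W.mem⟩)).2
        (by simp [mem_subgroupOf, hxA, W.not_mem])
      exact this
    have hconj := W.isConj S hmem
    rw [mul_assoc, W.sq, mul_one] at hconj
    exact hconj.trans hx.symm
  rw [Nat.card_of_isEmpty, Nat.cast_zero, zero_mul] at h
  have hK : (Nat.card {x : G // IsConj t x} : ℂ) ≠ 0 := by exact_mod_cast (card_isConj_pos t).ne'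
  have hc0 : (c : ℂ) ≠ 0 := by rcases hc with rfl | rfl <;> norm_num
  have h2 := (mul_eq_zero.1 ((mul_eq_zero.1 h.symm).resolve_left (pow_ne_zero _ hK))).resolve_left hc0
  have hx : (χ₁ : G → ℂ) t = (χ₁ : G → ℂ) 1 := by
    rw [apply_one]; exact (sub_eq_zero.1 (pow_eq_zero_iff (by norm_num) |>.1 h2)).symm
  have hχ := isCharacter_of_irr χ₁.2
  haveI := kerSubgroup_normal hχ
  rcases (kerSubgroup_normal hχ).eq_bot_or_eq_top with hb | htop
  · have htk : t ∈ kerSubgroup (χ₁ : G → ℂ) hχ := (mem_kerSubgroup hχ t).2 hx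
    rw [hb, Subgroup.mem_bot] at htk
    rw [htk, orderOf_one] at ht
    norm_num at ht
  · have hall : ∀ g, (χ₁ : G → ℂ) g = (χ₁ : G → ℂ) 1 := fun g =>
      (mem_kerSubgroup hχ g).1 (htop ▸ Subgroup.mem_top g)
    have h3 := F.const χ₁ hX a ha ha1
    rw [hall a, apply_one, hcv] at h3
    have h4 : dg χ₁ = 1 := by
      have h5 : dg χ₁ = c := by exact_mod_cast h3
      have := dg_pos χ₁
      omega
    exact hne (Subtype.ext (funext fun g => by rw [hall g, apply_one, h4, triv_apply]; norm_num))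

/-- The pairs of involutions with product in `A`. -/
theorem Sys.card_pairs (S : Sys A 2) {w : G} (W : Inverter A w) (hone : ∀ y : G, orderOf y = 2 → IsConj w y)
    {a : G} (ha : a ∈ A) (ha1 : a ≠ 1) :
    Nat.card {p : G × G // IsConj w p.1 ∧ IsConj w p.2 ∧ p.1 * p.2 = a} = Nat.card A := by
  have how : orderOf w = 2 := by simpa using W.order S (one_mem A)
  refine (Nat.card_eq_of_bijective (fun b : A => (⟨((b : G) * w, (b : G) * w * a),
    hone _ (W.order S b.2), ?_, W.mul_self_pair S b.2⟩ :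
      {p : G × G // IsConj w p.1 ∧ IsConj w p.2 ∧ p.1 * p.2 = a})) ⟨fun b b' h => ?_, ?_⟩).symm
  · show IsConj w ((b : G) * w * a)
    rw [W.pair_mul ha]
    exact hone _ (W.order S (mul_mem b.2 (inv_mem ha)))
  · exact Subtype.ext (mul_right_cancel (Prod.ext_iff.1 (congrArg Subtype.val h)).1)
  · rintro ⟨⟨x, y⟩, hx, hy, hxy⟩
    simp only at hx hy hxy
    have ho : ∀ z, IsConj w z → z * z = 1 := fun z hz => by
      obtain ⟨g, rfl⟩ := isConj_iff.1 hz
      rw [show g * w * g⁻¹ * (g * w * g⁻¹) = g * (w * w) * g⁻¹ by group, W.sq]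
      group
    have hinv : x * a * x⁻¹ = a⁻¹ := by
      rw [← hxy, mul_inv_rev, inv_eq_of_mul_eq_one_right (ho x hx), inv_eq_of_mul_eq_one_right (ho y hy)]
      calc x * (x * y) * x = x * x * y * x := by group
        _ = y * x := by rw [ho x hx, one_mul]
    have hxN : x ∈ normalizer (A : Set G) :=
      S.mem_normalizer_of_conj ha ha1 (by rw [hinv]; exact inv_mem ha)
    have hxA : x ∉ A := by
      intro hxA
      have h2 : orderOf (⟨x, hxA⟩ : A) ∣ 2 :=
        orderOf_dvd_of_pow_eq_one (Subtype.ext (by show x ^ 2 = 1; rw [pow_two, ho x hx]))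
      rcases Nat.prime_two.eq_one_or_self_of_dvd _ h2 with h3 | h3
      · have hx1 : x = 1 := congrArg Subtype.val (orderOf_eq_one_iff.1 h3)
        obtain ⟨g, hg⟩ := isConj_iff.1 hx
        rw [hx1] at hg
        rw [conj_eq_one_iff.1 hg, orderOf_one] at how
        norm_num at how
      · exact S.odd.not_two_dvd_nat (h3 ▸ orderOf_dvd_natCard (⟨x, hxA⟩ : A))
    have hidx : (A.subgroupOf (normalizer (A : Set G))).index = 2 := S.he
    have hmem : x * w ∈ A := (Subgroup.mul_mem_iff_of_index_two hidx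
      (a := (⟨x, hxN⟩ : normalizer (A : Set G))) (b := ⟨w, W.mem⟩)).2
      (by simp [mem_subgroupOf, hxA, W.not_mem])
    refine ⟨⟨x * w, hmem⟩, Subtype.ext (Prod.ext ?_ ?_)⟩
    · show x * w * w = x
      rw [mul_assoc, W.sq, mul_one]
    · show x * w * w * a = y
      rw [mul_assoc x, W.sq, mul_one, ← hxy, ← mul_assoc, ho x hx, one_mul]

end Cfsg.Lib.SuzSystem
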