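import Cfsg.Agent.SuzSystem.Cross

/-!
# The character table of a Suzuki-type self-centralisation system
-/

set_option autoImplicit false
set_option linter.unusedSectionVars false
set_option linter.style.haveILetI false

namespace Cfsg.Lib.SuzSystem

open scoped ComplexConjugate
open Cfsg.Lib.Chars Subgroup

universe u

variable {G : Type u} [Group G] [Fintype G]

/-- The hypotheses. -/
structure Triple (A₁ A₂ A₃ : Subgroup G) : Prop where
  S₁ : Sys A₁ 2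
  S₂ : Sys A₂ 4
  S₃ : Sys A₃ 4
  h₂ : 5 < Nat.card A₂
  h₃ : 5 < Nat.card A₃
  n₁₂ : NotConj A₁ A₂
  n₁₃ : NotConj A₁ A₃
  n₂₃ : NotConj A₂ A₃
  bound : Nat.card G ≤ 3 * Nat.card A₁ ^ 2 * Nat.card A₂ ^ 2 * Nat.card A₃ ^ 2

namespace Triple

variable {A₁ A₂ A₃ : Subgroup G}

theorem swap (T : Triple A₁ A₂ A₃) : Triple A₁ A₃ A₂ :=
  ⟨T.S₁, T.S₃, T.S₂, T.h₃, T.h₂, T.n₁₃, T.n₁₂, T.n₂₃.symm, T.bound.trans (le_of_eq (by ring))⟩

theorem mod_two (T : Triple A₁ A₂ A₃) :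
    9 ≤ (Nat.card A₂ : ℤ) ∧ (Nat.card A₂ : ℤ) % 4 = 1 := by
  obtain ⟨k, hk⟩ := T.S₂.dvd_sub_one
  have := T.h₂
  omega

theorem mod_three (T : Triple A₁ A₂ A₃) :
    9 ≤ (Nat.card A₃ : ℤ) ∧ (Nat.card A₃ : ℤ) % 4 = 1 :=
  T.swap.mod_two

theorem ne_two_three (T : Triple A₁ A₂ A₃) : (Nat.card A₂ : ℤ) ≠ Nat.card A₃ := by
  intro h
  have h' : Nat.card A₂ = Nat.card A₃ := by exact_mod_cast h
  have hc := T.S₂.coprime T.S₃ T.n₂₃
  rw [h', Nat.coprime_self] at hc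
  have := T.h₃
  omega

/-- What is known about the first subgroup. -/
structure First (F₁ : Fam A₁ 2) (χ₁ : Cfsg.IrrCharacter G) (c : ℤ) (w : G) : Prop where
  notX : χ₁ ∉ F₁.X
  ne : χ₁ ≠ triv G
  hc : c = 1 ∨ c = -1
  cv : F₁.cv χ₁ = c
  zero : ∀ χ, χ ≠ triv G → χ ≠ χ₁ → F₁.cv χ = 0
  hs : F₁.s = 1 ∨ F₁.s = -1
  real : ∀ g, ((χ₁ : G → ℂ) g).im = 0
  sum : ∀ φ : Cfsg.IrrCharacter G → ℂ, ∑ χ : Cfsg.IrrCharacter G, φ χ * F₁.cv χ = φ (triv G) + φ χ₁ * c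
  inv : Inverter A₁ w
  one : ∀ y : G, orderOf y = 2 → IsConj w y

theorem exists_first [IsSimpleGroup G] (T : Triple A₁ A₂ A₃) (F₁ : Fam A₁ 2) :
    ∃ χ₁ c w, First F₁ χ₁ c w := by
  obtain ⟨χ₁, c, hX, hne, hc, hcv, hz, -, hs, hreal, hsum⟩ := F₁.exists_second T.S₁
  obtain ⟨w, W⟩ := T.S₁.exists_inv
  exact ⟨χ₁, c, w, hX, hne, hc, hcv, hz, hs, hreal, hsum, W,
    fun y hy => F₁.one_class T.S₁ hX hne hc hcv hs hsum W hy⟩

variable {F₁ : Fam A₁ 2} {χ₁ : Cfsg.IrrCharacter G} {c : ℤ} {w : G}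

theorem First.order (T : Triple A₁ A₂ A₃) (H : First F₁ χ₁ c w) : orderOf w = 2 := by
  simpa using H.inv.order T.S₁ (one_mem A₁)

theorem First.card_class (T : Triple A₁ A₂ A₃) (H : First F₁ χ₁ c w) :
    Nat.card {y : G // IsConj w y} = (invols G).card := by
  classical
  rw [Nat.card_eq_fintype_card, Fintype.card_subtype]
  congr 1
  ext y
  rw [Finset.mem_filter, mem_invols]
  refine ⟨fun h => ?_, fun h => ⟨Finset.mem_univ _, H.one y h⟩⟩
  obtain ⟨g, rfl⟩ := isConj_iff.1 h.2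
  exact ((MulAut.conj g).orderOf_eq w).trans (H.order T)

/-- The degree of the members of the first family. -/
theorem First.deg_family (T : Triple A₁ A₂ A₃) (H : First F₁ χ₁ c w) {μ : Cfsg.IrrCharacter G}
    (hμ : μ ∈ F₁.X) : dg μ * F₁.s = -(1 + c * dg χ₁) := by
  have h := F₁.column T.S₁ T.S₁.not_supp_one hμ
  rw [H.sum (fun χ => (χ : G → ℂ) 1), triv_apply, apply_one, apply_one] at h
  have h' : (1 : ℤ) + dg χ₁ * c + dg μ * F₁.s = 0 := by exact_mod_cast h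
  linarith

/-- The count of pairs of involutions, and a lower bound for their number. -/
theorem First.pairs (T : Triple A₁ A₂ A₃) (H : First F₁ χ₁ c w) {x : ℤ} (hx : (χ₁ : G → ℂ) w = x) :
    (Nat.card A₁ : ℤ) * Nat.card G * dg χ₁ * (dg χ₁ + c) =
      ((invols G).card : ℤ) ^ 2 * (dg χ₁ - x) ^ 2 := by
  obtain ⟨a, ha, ha1⟩ := T.S₁.exists_ne
  obtain ⟨μ, hμ⟩ := Finset.card_pos.1 F₁.card_pos
  have h := F₁.pairs_eq T.S₁ H.hc H.hs hμ H.sum (H.order T) ha ha1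
  rw [T.S₁.card_pairs H.inv H.one ha ha1, H.card_class T, hx] at h
  have h' : (Nat.card A₁ : ℤ) * ((Nat.card G : ℤ) * dg χ₁ * (1 + c * dg χ₁)) =
      ((invols G).card : ℤ) ^ 2 * (c * (dg χ₁ - x) ^ 2) := by exact_mod_cast h
  have hc2 : c * c = 1 := by rcases H.hc with rfl | rfl <;> norm_num
  linear_combination c * h' + (((invols G).card : ℤ) ^ 2 * (dg χ₁ - x) ^ 2 -
    (Nat.card A₁ : ℤ) * Nat.card G * dg χ₁ * dg χ₁) * hc2

theorem supp_le (T : Triple A₁ A₂ A₃) :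
    Nat.card A₁ * (Sys.supp A₁).card + Nat.card A₂ * (Sys.supp A₂).card +
      Nat.card A₃ * (Sys.supp A₃).card ≤ (invols G).card ^ 2 := by
  classical
  set P := invols G ×ˢ invols G with hP
  have hd12 := T.S₁.supp_disjoint T.S₂ T.n₁₂
  have hd13 := T.S₁.supp_disjoint T.S₃ T.n₁₃
  have hd23 := T.S₂.supp_disjoint T.S₃ T.n₂₃
  set f : G → ℕ := fun g => (P.filter fun p => p.1 * p.2 = g).card with hf
  have htot : ∑ g, f g = (invols G).card ^ 2 := by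
    rw [pow_two, ← Finset.card_product, ← hP]
    exact (Finset.card_eq_sum_card_fiberwise fun p _ => Finset.mem_univ _).symm
  rw [← htot]
  refine le_trans ?_ (Finset.sum_le_sum_of_subset
    (Finset.subset_univ ((Sys.supp A₁ ∪ Sys.supp A₂) ∪ Sys.supp A₃)))
  rw [Finset.sum_union (Finset.disjoint_union_left.2 ⟨hd13, hd23⟩), Finset.sum_union hd12]
  gcongr
  · rw [mul_comm, ← smul_eq_mul, ← Finset.sum_const]
    exact Finset.sum_le_sum fun g hg => T.S₁.le_fibre hg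
  · rw [mul_comm, ← smul_eq_mul, ← Finset.sum_const]
    exact Finset.sum_le_sum fun g hg => T.S₂.le_fibre hg
  · rw [mul_comm, ← smul_eq_mul, ← Finset.sum_const]
    exact Finset.sum_le_sum fun g hg => T.S₃.le_fibre hg

theorem mul_supp {A : Subgroup G} {e r : ℕ} (S : Sys A e) (hr : e * r + 1 = Nat.card A) :
    (Nat.card A : ℤ) * (Sys.supp A).card = (Nat.card G : ℤ) * r := by
  have h := S.card_supp
  rw [show Nat.card A - 1 = e * r by omega] at h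
  have he : 0 < e := by rcases S.he24 with rfl | rfl <;> norm_num
  have h' : e * (Nat.card A * (Sys.supp A).card) = e * (Nat.card G * r) := by linarith
  exact_mod_cast Nat.eq_of_mul_eq_mul_left he h'

/-- The inequality between the three families and the degree. -/
theorem First.inequality (T : Triple A₁ A₂ A₃) (H : First F₁ χ₁ c w) (F₂ : Fam A₂ 4) (F₃ : Fam A₃ 4)
    {x : ℤ} (hx : (χ₁ : G → ℂ) w = x) :
    ((F₁.X.card : ℤ) + F₂.X.card + F₃.X.card) * (dg χ₁ - x) ^ 2 ≤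
      (Nat.card A₁ : ℤ) * (dg χ₁ * (dg χ₁ + c)) := by
  have h := H.pairs T hx
  have h1 : ((Nat.card A₁ : ℤ) * (Sys.supp A₁).card + (Nat.card A₂ : ℤ) * (Sys.supp A₂).card +
      (Nat.card A₃ : ℤ) * (Sys.supp A₃).card) ≤ ((invols G).card : ℤ) ^ 2 := by
    exact_mod_cast T.supp_le
  rw [mul_supp T.S₁ F₁.card, mul_supp T.S₂ F₂.card, mul_supp T.S₃ F₃.card] at h1
  have h2 := mul_le_mul_of_nonneg_right h1 (sq_nonneg (dg χ₁ - x))
  refine le_of_mul_le_mul_left ?_ (show (0 : ℤ) < Nat.card G by exact_mod_cast Nat.card_pos)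
  linarith

theorem First.notX_of_zero (T : Triple A₁ A₂ A₃) (H : First F₁ χ₁ c w) (F₂ : Fam A₂ 4) :
    χ₁ ∉ F₂.X := by
  intro h
  obtain ⟨μ, hμ, hne⟩ := Finset.exists_mem_ne (show 1 < F₂.X.card by have := F₂.two; omega) χ₁
  have h1 := Fam.cv_eq T.S₁ T.S₂ T.n₁₂ F₁ F₂ hμ h
  rw [H.cv, H.zero μ (fun e => F₂.triv_not_mem (e ▸ hμ)) hne] at h1
  rcases H.hc with h' | h' <;> omega

/-- The first subgroup does not meet the family of another. -/
theorem First.meet (T : Triple A₁ A₂ A₃) (H : First F₁ χ₁ c w) (F₂ : Fam A₂ 4) (F₃ : Fam A₃ 4) :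
    F₂.cv χ₁ = -c ∧ ∀ μ ∈ F₁.X, F₂.cv μ = 0 := by
  classical
  obtain ⟨μ, hμ⟩ := Finset.card_pos.1 F₁.card_pos
  obtain ⟨μ', hμ'⟩ := Finset.card_pos.1 F₂.card_pos
  have hsym := T.n₁₂.symm
  have hcross := Fam.cross T.S₁ T.S₂ T.n₁₂ F₁ F₂ hμ hμ'
  have hsum := H.sum (fun χ => (F₂.cv χ : ℂ))
  rw [F₂.cv_triv] at hsum
  have hsum' : ∑ χ : Cfsg.IrrCharacter G, F₁.cv χ * F₂.cv χ = 1 + F₂.cv χ₁ * c := by
    have : ∑ χ : Cfsg.IrrCharacter G, F₂.cv χ * F₁.cv χ = 1 + F₂.cv χ₁ * c := by exact_mod_cast hsum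
    rw [← this]; exact Finset.sum_congr rfl fun χ _ => mul_comm _ _
  have hX₁ := H.notX_of_zero T F₂
  rw [hsum', H.zero μ' (fun e => F₂.triv_not_mem (e ▸ hμ')) (fun e => hX₁ (e ▸ hμ')), zero_mul,
    add_zero] at hcross
  set u := F₂.cv χ₁ with hu
  set v := F₂.cv μ with hv
  have hvX : ∀ χ ∈ F₁.X, F₂.cv χ = v := fun χ hχ => Fam.cv_eq T.S₂ T.S₁ hsym F₂ F₁ hχ hμ
  -- the budget of the second subgroup
  have htX : triv G ∉ insert χ₁ F₁.X := by
    simp only [Finset.mem_insert, not_or]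
    exact ⟨H.ne.symm, F₁.triv_not_mem⟩
  have hb := F₂.budget
  rw [← Finset.sum_add_sum_compl (insert (triv G) (insert χ₁ F₁.X)),
    Finset.sum_insert htX, Finset.sum_insert H.notX, F₂.cv_triv,
    Finset.sum_congr rfl (fun χ hχ => by rw [hvX χ hχ] : ∀ χ ∈ F₁.X, F₂.cv χ * F₂.cv χ = v * v),
    Finset.sum_const, nsmul_eq_mul] at hb
  have hrest : 0 ≤ ∑ χ ∈ (insert (triv G) (insert χ₁ F₁.X))ᶜ, F₂.cv χ * F₂.cv χ :=
    Finset.sum_nonneg fun χ _ => mul_self_nonneg _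
  have hdel := F₂.del_nonneg
  have htwo : (2 : ℤ) ≤ F₁.X.card := by exact_mod_cast F₁.two
  rcases eq_or_ne v 0 with hv0 | hv0
  · refine ⟨?_, fun χ hχ => (hvX χ hχ).trans hv0⟩
    rw [hv0, zero_mul, add_zero] at hcross
    rcases H.hc with rfl | rfl <;> linarith
  exfalso
  have hvv : 1 ≤ v * v := Int.lt_iff_add_one_le.1 (mul_self_pos.2 hv0)
  have hXv : (F₁.X.card : ℤ) * 1 ≤ (F₁.X.card : ℤ) * (v * v) :=
    mul_le_mul_of_nonneg_left hvv (by linarith)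
  have h2v : 2 * (v * v) ≤ (F₁.X.card : ℤ) * (v * v) :=
    mul_le_mul_of_nonneg_right htwo (by linarith)
  have huu := mul_self_nonneg u
  push_cast at hb
  have hbb : u * u + (F₁.X.card : ℤ) * (v * v) + F₂.del ≤ 3 := by linarith
  have hvv1 : v * v = 1 := by linarith
  have hv1 : v = 1 ∨ v = -1 := Int.eq_one_or_neg_one_of_mul_eq_one hvv1
  have hu0 : u = 0 := by
    have hul : -1 ≤ u ∧ u ≤ 1 := by constructor <;> nlinarith
    rcases hv1 with h | h <;> rcases H.hs with h' | h' <;> rw [h, h'] at hcross <;>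
      rcases H.hc with rfl | rfl <;> omega
  have hXle : (F₁.X.card : ℤ) ≤ 3 := by linarith
  have hX3 : F₁.X.card = 2 ∨ F₁.X.card = 3 := by omega
  rcases hX3 with hX2 | hX3
  · -- `n₁ = 5`
    have hn1 : Nat.card A₁ = 5 := by have := F₁.card; omega
    obtain ⟨h₂, h₂'⟩ := T.mod_two
    obtain ⟨h₃, h₃'⟩ := T.mod_three
    obtain ⟨w', W'⟩ := T.S₂.exists_inv
    obtain ⟨x, hx, hxb⟩ := W'.xbound T.S₂ F₂ hX₁
    have hxw : (χ₁ : G → ℂ) w = x := by
      rw [← hx]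
      refine classFunction_eq_of_isConj (isClassFunction_irr χ₁) (H.one w' ?_)
      simpa using W'.order T.S₂ (one_mem A₂)
    rw [← hu, hu0, mul_zero, add_zero] at hxb
    have hd2 := F₂.congr χ₁ hX₁
    rw [← hu, hu0, sub_zero] at hd2
    have hd5 := F₁.congr χ₁ H.notX
    rw [H.cv, hn1] at hd5
    have hI := H.inequality T F₂ F₃ hxw
    rw [hX2, hn1] at hI
    have hc2 := F₂.card
    have hc3 := F₃.card
    refine pairs_absurd h₂ h₂' h₃ h₃' T.ne_two_three (fun h => T.ne_two_three (h.1.trans h.2.symm))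
      H.hc (by have := dg_pos χ₁; omega) hd2 (by exact_mod_cast hd5) hxb ?_
    rw [show (Nat.card A₂ : ℤ) = 4 * F₂.X.card + 1 by exact_mod_cast hc2.symm,
      show (Nat.card A₃ : ℤ) = 4 * F₃.X.card + 1 by exact_mod_cast hc3.symm]
    push_cast at hI
    linarith
  · -- `n₁ = 7`
    obtain ⟨ν, hν1, hν2, hν3, hν4⟩ := exists_nu (G := G)
    have h1 := Fam.nu_relation T.S₁ F₁ ν hν3 hν4 hμ
    have h2 := Fam.nu_relation T.S₂ F₂ ν hν3 hν4 hμ'
    have hs := H.sum (fun χ => (ν χ : ℂ))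
    rw [nu_triv ν hν3] at hs
    have hs' : ∑ χ : Cfsg.IrrCharacter G, ν χ * F₁.cv χ = 1 + ν χ₁ * c := by exact_mod_cast hs
    rw [hs'] at h1
    have hνχ := hν2 χ₁ H.real
    have hνμ : ν μ ≠ 0 := fun h => by
      rw [h, zero_mul, add_zero] at h1
      rcases H.hc with rfl | rfl <;> omega
    rw [hX3] at hb
    rw [hvv1, ← hu, hu0] at hb
    push_cast at hb
    have hrest0 : ∑ χ ∈ (insert (triv G) (insert χ₁ F₁.X))ᶜ, F₂.cv χ * F₂.cv χ = 0 := by linarith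
    have hdel0 : F₂.del = 0 := by linarith
    have hz := (Finset.sum_eq_zero_iff_of_nonneg fun χ _ => mul_self_nonneg (F₂.cv χ)).1 hrest0
    rw [← Finset.sum_add_sum_compl (insert (triv G) (insert χ₁ F₁.X)),
      Finset.sum_insert htX, Finset.sum_insert H.notX, F₂.cv_triv, nu_triv ν hν3,
      Finset.sum_congr rfl (fun χ hχ => by rw [hvX χ hχ, Fam.nu_eq T.S₁ F₁ ν hν3 hχ hμ] :
        ∀ χ ∈ F₁.X, ν χ * F₂.cv χ = ν μ * v),
      Finset.sum_eq_zero (s := (insert (triv G) (insert χ₁ F₁.X))ᶜ) (fun χ hχ => by rw [mul_self_eq_zero.1 (hz χ hχ), mul_zero]),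
      Finset.sum_const, nsmul_eq_mul, hX3, ← hu, hu0] at h2
    have hs2 : F₂.s = 1 ∨ F₂.s = -1 :=
      Int.eq_one_or_neg_one_of_mul_eq_one (by rw [F₂.sq, hdel0, mul_zero, zero_add])
    have hb2 := abs_le.1 (hν1 μ')
    have hb1 := abs_le.1 (hν1 μ)
    push_cast at h2
    rcases hv1 with h | h <;> rcases hs2 with h' | h' <;> rw [h, h'] at h2 <;> omega

end Triple

end Cfsg.Lib.SuzSystem
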